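/-
P2 (Zassenhaus groups of odd degree): additive maps of a finite field of characteristic two.
-/
import Mathlib

set_option autoImplicit false

namespace Cfsg.Agent.P2

open Finset

variable {F : Type*} [Field F]

/-- Products of two automorphisms determine the pair. -/
theorem two_two {σ₁ σ₂ τ₁ τ₂ : F ≃+* F} (h : ∀ x, σ₁ x * σ₂ x = τ₁ x * τ₂ x) :
    (σ₁ = τ₁ ∧ σ₂ = τ₂) ∨ (σ₁ = τ₂ ∧ σ₂ = τ₁) := by
  have hs : ∀ x, σ₁ x + σ₂ x = τ₁ x + τ₂ x := fun x => by
    have h1 := h (x + 1)
    simp only [map_add, map_one] at h1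
    linear_combination h1 - h x
  have hc : ∀ x, σ₁ x = τ₁ x ∨ σ₁ x = τ₂ x := fun x => by
    have : (σ₁ x - τ₁ x) * (σ₁ x - τ₂ x) = 0 := by
      linear_combination σ₁ x * hs x - h x
    simpa [sub_eq_zero] using this
  have : σ₁ = τ₁ ∨ σ₁ = τ₂ := by
    by_contra hn
    push Not at hn
    obtain ⟨x, hx⟩ : ∃ x, σ₁ x ≠ τ₁ x := by
      by_contra hh; push Not at hh; exact hn.1 (RingEquiv.ext hh)
    obtain ⟨y, hy⟩ : ∃ x, σ₁ x ≠ τ₂ x := by
      by_contra hh; push Not at hh; exact hn.2 (RingEquiv.ext hh)
    have hx' := (hc x).resolve_left hx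
    have hy' := (hc y).resolve_right hy
    rcases hc (x + y) with h1 | h1
    · simp only [map_add] at h1
      exact hx (by linear_combination h1 - hy')
    · simp only [map_add] at h1
      exact hy (by linear_combination h1 - hx')
  rcases this with h1 | h1
  · refine Or.inl ⟨h1, RingEquiv.ext fun x => ?_⟩
    have := hs x
    rw [h1] at this
    exact add_left_cancel this
  · refine Or.inr ⟨h1, RingEquiv.ext fun x => ?_⟩
    have := hs x
    rw [h1, add_comm (τ₁ x)] at this
    exact add_left_cancel this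

variable [Fintype F]

noncomputable instance instFintypeAut : Fintype (F ≃+* F) :=
  @Fintype.ofFinite _ (Finite.of_injective (fun σ : F ≃+* F => (σ : F → F))
    fun _ _ h => RingEquiv.ext (congrFun h))

theorem aut_indep (c : (F ≃+* F) → F) (h : ∀ x, ∑ σ, c σ * σ x = 0) : ∀ σ, c σ = 0 := by
  have h1 : LinearIndependent F (fun σ : F ≃+* F => ((σ : F →* F) : F → F)) :=
    (linearIndependent_monoidHom F F).comp (fun σ : F ≃+* F => (σ : F →* F))
      fun σ τ e => RingEquiv.ext fun x => by simpa using DFunLike.congr_fun e x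
  refine Fintype.linearIndependent_iff.mp h1 c ?_
  funext x
  simpa [Finset.sum_apply] using h x

theorem aut_ext {c c' : (F ≃+* F) → F} (h : ∀ x, ∑ σ, c σ * σ x = ∑ σ, c' σ * σ x) (σ : F ≃+* F) :
    c σ = c' σ := by
  have := aut_indep (fun σ => c σ - c' σ) (fun x => by
    simp only [sub_mul, Finset.sum_sub_distrib, h x, sub_self]) σ
  exact sub_eq_zero.mp this

variable [CharP F 2]

theorem exists_coef (f : F →+ F) : ∃ c : (F ≃+* F) → F, ∀ x, f x = ∑ σ, c σ * σ x := by
  classical
  have : Fact (Nat.Prime 2) := ⟨Nat.prime_two⟩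
  let _ : Algebra (ZMod 2) F := ZMod.algebra F 2
  let v : (F ≃+* F) → (F →ₗ[ZMod 2] F) := fun σ => (σ : F →+ F).toZModLinearMap 2
  have hv : LinearIndependent F v := by
    refine Fintype.linearIndependent_iff.mpr fun c hc => aut_indep c fun x => ?_
    have := LinearMap.congr_fun hc x
    simpa [v, LinearMap.sum_apply] using this
  have h1 : Module.finrank F (F →ₗ[ZMod 2] F) = Module.finrank (ZMod 2) F :=
    Module.finrank_linearMap_self _ _ _
  have h2 : Module.finrank (ZMod 2) F ≤ Fintype.card (F ≃+* F) := by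
    rw [← IsGalois.card_aut_eq_finrank, ← Nat.card_eq_fintype_card]
    exact Nat.card_le_card_of_injective (fun σ : F ≃ₐ[ZMod 2] F => σ.toRingEquiv)
      fun σ τ e => AlgEquiv.ext fun x => DFunLike.congr_fun e x
  have h3 : Fintype.card (F ≃+* F) = Module.finrank F (F →ₗ[ZMod 2] F) :=
    le_antisymm hv.fintype_card_le_finrank (h1 ▸ h2)
  have h4 := hv.span_eq_top_of_card_eq_finrank' h3
  have h5 : f.toZModLinearMap 2 ∈ Submodule.span F (Set.range v) := h4 ▸ Submodule.mem_top
  obtain ⟨c, hc⟩ := (Submodule.mem_span_range_iff_exists_fun F).mp h5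
  refine ⟨c, fun x => ?_⟩
  have := LinearMap.congr_fun hc x
  simpa [v, LinearMap.sum_apply] using this.symm

/-- The coefficients of an additive map. -/
noncomputable def coef (f : F →+ F) : (F ≃+* F) → F := (exists_coef f).choose

theorem coef_spec (f : F →+ F) (x : F) : f x = ∑ σ, coef f σ * σ x := (exists_coef f).choose_spec x

theorem coef_add (f g : F →+ F) (σ : F ≃+* F) : coef (f + g) σ = coef f σ + coef g σ :=
  aut_ext (c' := fun σ => coef f σ + coef g σ) (fun x => by
    simp only [add_mul, Finset.sum_add_distrib, ← coef_spec, AddMonoidHom.add_apply]) σ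

theorem coef_zero (σ : F ≃+* F) : coef (0 : F →+ F) σ = 0 :=
  aut_indep _ (fun x => by rw [← coef_spec]; rfl) σ

theorem eq_zero_of_coef {f : F →+ F} (h : ∀ σ, coef f σ = 0) : f = 0 := by
  ext x
  simp [coef_spec f x, h]

theorem coef_equivar {f g : F →+ F} {κ μ : F} (h : ∀ x, g (κ * x) = μ * f x) (σ : F ≃+* F) :
    coef g σ * σ κ = μ * coef f σ :=
  aut_ext (c := fun σ => coef g σ * σ κ) (c' := fun σ => μ * coef f σ) (fun x => by
    have := h x
    rw [coef_spec g, coef_spec f, Finset.mul_sum] at this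
    simpa [mul_assoc] using this) σ

theorem eq_mul_of_coef {f : F →+ F} {σ : F ≃+* F} (h : ∀ τ, τ ≠ σ → coef f τ = 0) (x : F) :
    f x = coef f σ * σ x := by
  rw [coef_spec, Finset.sum_eq_single σ]
  · intro τ _ hτ
    rw [h τ hτ, zero_mul]
  · simp

omit [Fintype F] in
theorem two_eq : (2 : F) = 0 := CharTwo.two_eq_zero

omit [Fintype F] in
/-- An alternating biadditive map `F × F → F` which is homogeneous of degree one vanishes. -/
theorem alt_eq_zero [Finite F] (B : F → F → F) (h1 : ∀ x y z, B (x + y) z = B x z + B y z)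
    (h2 : ∀ x y z, B x (y + z) = B x y + B x z) (h0 : ∀ x, B x x = 0)
    (he : ∀ κ x y, κ ≠ 0 → B (κ * x) (κ * y) = κ * B x y) (x y : F) : B x y = 0 := by
  have z1 : ∀ y, B 0 y = 0 := fun y => by simpa using h1 0 0 y
  have z2 : ∀ y, B y 0 = 0 := fun y => by simpa using h2 y 0 0
  have he' : ∀ κ x y, B (κ * x) (κ * y) = κ * B x y := fun κ x y => by
    by_cases hκ : κ = 0
    · simp [hκ, z1]
    · exact he κ x y hκ
  have h3 : ∀ κ y, B κ y = B 1 (κ * y) := fun κ y => by
    have a := he' (κ + 1) 1 y
    have b := he' κ 1 y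
    simp only [mul_one, add_mul, one_mul, h1, h2] at a b
    have t : (2 : F) = 0 := CharTwo.two_eq_zero
    linear_combination a - b - (B 1 (κ * y)) * t
  obtain ⟨w, hw⟩ : ∃ w : F, w * w = x * y := by
    have hi : Function.Injective fun w : F => w * w := fun a b e => by
      have t : (2 : F) = 0 := CharTwo.two_eq_zero
      have : (a - b) * (a - b) = 0 := by
        simp only at e
        linear_combination e + (b * b - a * b) * t
      exact sub_eq_zero.mp (mul_self_eq_zero.mp this)
    exact Finite.surjective_of_injective hi (x * y)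
  rw [h3, ← hw, ← h3, h0]

/-- A multiplicative map whose polarization is biadditive and nonzero is a product of two
different automorphisms. -/
theorem exists_eq_mul_of_quadratic (N : F → F) (hm : ∀ x y, N (x * y) = N x * N y) (h0 : N 0 = 0)
    (B : F → F → F) (hB : ∀ x y, N (x + y) = N x + N y + B x y)
    (h1 : ∀ x y z, B (x + y) z = B x z + B y z) (hne : ∃ x y, B x y ≠ 0) :
    ∃ σ τ : F ≃+* F, σ ≠ τ ∧ ∀ x, N x = σ x * τ x := by
  have t : (2 : F) = 0 := CharTwo.two_eq_zero
  have hs : ∀ x y, B x y = B y x := fun x y => by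
    have a := hB x y
    have b := hB y x
    rw [add_comm y x] at b
    linear_combination b - a
  have h2 : ∀ x y z, B x (y + z) = B x y + B x z := fun x y z => by
    rw [hs, h1, hs y, hs z]
  have he : ∀ κ x y, B (κ * x) (κ * y) = N κ * B x y := fun κ x y => by
    have a := hB (κ * x) (κ * y)
    rw [← mul_add, hm, hm, hm, hB] at a
    linear_combination -a
  let η : F → F →+ F := fun x => AddMonoidHom.mk' (B x) (h2 x)
  have hη : ∀ x y, η (x + y) = η x + η y := fun x y => by
    ext z; exact h1 x y z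
  let c : (F ≃+* F) → F →+ F := fun τ => AddMonoidHom.mk' (fun x => coef (η x) τ)
    fun x y => by simp only [hη, coef_add]
  obtain ⟨τ, σ, hc⟩ : ∃ τ σ, coef (c τ) σ ≠ 0 := by
    by_contra hn
    push Not at hn
    obtain ⟨x, y, hxy⟩ := hne
    have : η x = 0 := eq_zero_of_coef fun τ => by
      have := eq_zero_of_coef (hn τ)
      exact DFunLike.congr_fun this x
    exact hxy (DFunLike.congr_fun this y)
  have key : ∀ κ, N κ = σ κ * τ κ := fun κ => by
    by_cases hκ : κ = 0
    · simp [hκ, h0]
    have hτ : τ κ ≠ 0 := by simpa using hκ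
    have e1 : ∀ x, c τ (κ * x) = (N κ / τ κ) * c τ x := fun x => by
      have := coef_equivar (f := η x) (g := η (κ * x)) (κ := κ) (μ := N κ) (he κ x) τ
      change coef (η (κ * x)) τ = _ * coef (η x) τ
      field_simp
      linear_combination this
    have e2 := coef_equivar e1 σ
    have e3 : σ κ = N κ / τ κ := mul_left_cancel₀ hc (by rw [e2, mul_comm])
    rw [e3]; field_simp
  refine ⟨σ, τ, ?_, key⟩
  rintro rfl
  obtain ⟨x, y, hxy⟩ := hne
  apply hxy
  have := hB x y
  simp only [key, map_add] at this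
  linear_combination -this + σ x * σ y * t

omit [Fintype F] in
/-- A symmetric cocycle vanishing on the diagonal is a coboundary. -/
theorem exists_coboundary [Finite F] (ε : F → F → F) (hs : ∀ a c, ε a c = ε c a)
    (h0 : ∀ a, ε a a = 0) (hz : ∀ a, ε 0 a = 0)
    (hc : ∀ a b c, ε a b + ε (a + b) c = ε b c + ε a (b + c)) :
    ∃ l : F → F, ∀ a c, ε a c = l a + l c + l (a + c) := by
  classical
  have t : (2 : F) = 0 := CharTwo.two_eq_zero
  have aa : ∀ a : F, a + a = 0 := fun a => CharTwo.add_self_eq_zero a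
  have main : ∀ s : Finset F, ∃ U : AddSubgroup F, (s : Set F) ⊆ U ∧ ∃ l : F → F,
      ∀ a ∈ U, ∀ c ∈ U, ε a c = l a + l c + l (a + c) := by
    intro s
    induction s using Finset.induction_on with
    | empty =>
      refine ⟨⊥, by simp, 0, fun a ha c _ => ?_⟩
      rw [AddSubgroup.mem_bot.mp ha, hz]; simp
    | insert v s _ ih =>
      obtain ⟨U, hU, l, hl⟩ := ih
      by_cases hv : v ∈ U
      · exact ⟨U, by simpa [Set.insert_subset_iff, hv] using hU, l, hl⟩
      have hvv : ∀ a, a + v + v = a := fun a => by rw [add_assoc, aa, add_zero]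
      have hn : ∀ a ∈ U, a + v ∉ U := fun a ha h => hv (by simpa using U.sub_mem h ha)
      let W : AddSubgroup F :=
        { carrier := {a | a ∈ U ∨ a + v ∈ U}
          zero_mem' := Or.inl U.zero_mem
          add_mem' := by
            rintro a c (ha | ha) (hc | hc)
            · exact Or.inl (U.add_mem ha hc)
            · exact Or.inr (by rw [add_assoc]; exact U.add_mem ha hc)
            · exact Or.inr (by rw [add_right_comm]; exact U.add_mem ha hc)
            · refine Or.inl ?_
              have := U.add_mem ha hc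
              rwa [show a + v + (c + v) = a + c + v + v by ring, hvv] at this
          neg_mem' := by
            intro a ha
            rwa [CharTwo.neg_eq] }
      let l' : F → F := fun a => if a ∈ U then l a else l (a + v) + ε (a + v) v
      have l1 : ∀ a ∈ U, l' a = l a := fun a ha => if_pos ha
      have l2 : ∀ a ∈ U, l' (a + v) = l a + ε a v := fun a ha => by
        simp only [l', if_neg (hn a ha), hvv]
      have mix : ∀ a ∈ U, ∀ c ∈ U, ε a (c + v) = l' a + l' (c + v) + l' (a + (c + v)) := by
        intro a ha c hc'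
        rw [← add_assoc, l1 a ha, l2 c hc', l2 _ (U.add_mem ha hc')]
        linear_combination -hc a c v + hl a ha c hc' + (- ε c v) * t
      refine ⟨W, ?_, l', ?_⟩
      · intro a ha
        rcases Finset.mem_insert.mp ha with rfl | ha
        · exact Or.inr (by rw [aa]; exact U.zero_mem)
        · exact Or.inl (hU ha)
      · rintro a (ha | ha) c (hc' | hc')
        · rw [l1 a ha, l1 c hc', l1 _ (U.add_mem ha hc'), hl a ha c hc']
        · simpa [hvv] using mix a ha _ hc'
        · have := mix c hc' _ ha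
          rw [hvv] at this
          rw [hs, this, add_comm a c]; ring
        · obtain ⟨a, rfl⟩ : ∃ a', a = a' + v := ⟨a + v, (hvv a).symm⟩
          obtain ⟨c, rfl⟩ : ∃ c', c = c' + v := ⟨c + v, (hvv c).symm⟩
          rw [hvv] at ha hc'
          rw [show a + v + (c + v) = a + c by linear_combination v * t, l2 a ha, l2 c hc',
            l1 _ (U.add_mem ha hc')]
          have e1 := hc a v (v + c)
          have e2 := hc v v c
          rw [← add_assoc, aa, zero_add] at e1
          rw [aa, hz, h0, hs v c] at e2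
          rw [add_comm c v]
          linear_combination e1 + hl a ha c hc' - e2 - (ε a v + ε c v) * t
  obtain ⟨U, hU, l, hl⟩ := main (Set.toFinite (Set.univ : Set F)).toFinset
  exact ⟨l, fun a c => hl a (hU (by simp)) c (hU (by simp))⟩

/-- An equivariant symmetric cocycle vanishing on the diagonal. -/
theorem exists_coboundary_equivar (ε : F → F → F) (hs : ∀ a c, ε a c = ε c a)
    (h0 : ∀ a, ε a a = 0) (hz : ∀ a, ε 0 a = 0)
    (hc : ∀ a b c, ε a b + ε (a + b) c = ε b c + ε a (b + c)) (θ : F ≃+* F)
    (he : ∀ κ a c, κ ≠ 0 → ε (κ * a) (κ * c) = κ * θ κ * ε a c) :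
    ∃ γ : F, ∀ a c, ε a c = γ * (θ a * c + a * θ c) := by
  classical
  have t : (2 : F) = 0 := CharTwo.two_eq_zero
  obtain ⟨l, hl⟩ := exists_coboundary ε hs h0 hz hc
  have l0 : l 0 = 0 := by
    have := hl 0 0
    rw [h0, add_zero (0 : F)] at this
    linear_combination -this - l 0 * t
  let m : F → F := fun a => ∑ κ : Fˣ, ((κ : F) * θ κ)⁻¹ * l (κ * a)
  have hm : ∀ a c, ε a c = m a + m c + m (a + c) := fun a c => by
    have h1 : ∑ _κ : Fˣ, ε a c = ε a c := by
      rw [Finset.sum_const, Finset.card_univ, Fintype.card_units, nsmul_eq_mul,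
        Nat.cast_sub Fintype.card_pos, FiniteField.cast_card_eq_zero]
      simp [CharTwo.neg_eq]
    simp only [m, ← Finset.sum_add_distrib]
    rw [← h1]
    refine Finset.sum_congr rfl fun κ _ => ?_
    have h2 : (κ : F) * θ κ ≠ 0 := by simp
    rw [← mul_add, ← mul_add, mul_add (κ : F), ← hl, he _ _ _ κ.ne_zero]
    field_simp
  have hm1 : ∀ a, m a = m 1 * (a * θ a) := fun a => by
    by_cases ha : a = 0
    · simp [m, ha, l0]
    simp only [m, Finset.sum_mul]
    rw [← Equiv.sum_comp (Equiv.mulRight (Units.mk0 a ha))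
      (fun κ : Fˣ => ((κ : F) * θ κ)⁻¹ * l (κ * 1) * (a * θ a))]
    refine Finset.sum_congr rfl fun κ _ => ?_
    have h2 : θ a ≠ 0 := by simpa using ha
    have h3 : θ κ ≠ 0 := by simp
    simp only [Equiv.coe_mulRight, Units.val_mul, Units.val_mk0, map_mul, mul_one]
    field_simp
  refine ⟨m 1, fun a c => ?_⟩
  rw [hm, hm1 a, hm1 c, hm1 (a + c), map_add]
  linear_combination m 1 * (a * θ a + c * θ c) * t

end Cfsg.Agent.P2
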