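/-
P2: sections on which an abelian group acts like the multiplicative group of a field.
-/
import Cfsg.Agent.FT.Base
import Cfsg.Agent.L.BSW2
import Cfsg.Agent.P2.Lin

set_option autoImplicit false

namespace Cfsg.Agent.P2

open Subgroup Cfsg Cfsg.Agent Cfsg.Agent.FT
open scoped commutatorElement

universe u

variable {G : Type u} [Group G] {F : Type*} [Field F]

/-- `p` identifies the section `M / N` with the additive group of `F`, and `k` identifies `Fˣ`
with `K`, acting by multiplication. -/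
structure SecField (M N K : Subgroup G) (p : G → F) (k : Fˣ →* G) : Prop where
  add : ∀ x ∈ M, ∀ y ∈ M, p (x * y) = p x + p y
  ker : ∀ x ∈ M, p x = 0 ↔ x ∈ N
  surj : ∀ a, ∃ x ∈ M, p x = a
  inj : Function.Injective k
  range : k.range = K
  conj : ∀ κ : Fˣ, ∀ x ∈ M, p (k κ * x * (k κ)⁻¹) = κ * p x

theorem exists_secField [Finite G] (F : Type*) [Field F] [Fintype F] {M N K : Subgroup G}
    (hcard : Fintype.card F = N.relIndex M) (hM : K ≤ 𝐍(M)) (hN : K ≤ 𝐍(N))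
    (hMN : ∀ x ∈ M, ∀ y ∈ M, ⁅x, y⁆ ∈ N) (hMN' : M ≤ 𝐍(N)) (hK : IsMulCommutative K) {e : G}
    (he : e ∈ M) (heN : e ∉ N) (htr : ∀ x ∈ M, x ∉ N → ∃ h ∈ K, (h * e * h⁻¹)⁻¹ * x ∈ N)
    (hfree : ∀ h ∈ K, (h * e * h⁻¹)⁻¹ * e ∈ N → h = 1) :
    ∃ (p : G → F) (k : Fˣ →* G), SecField M N K p k ∧ p e = 1 := by
  classical
  have : (N.subgroupOf M).Normal := H1.normal_subgroupOf_of_le hMN'
  let _ : CommGroup (M ⧸ N.subgroupOf M) :=
    { (inferInstance : Group (M ⧸ N.subgroupOf M)) with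
      mul_comm := by
        intro a b
        obtain ⟨a, rfl⟩ := QuotientGroup.mk_surjective a
        obtain ⟨b, rfl⟩ := QuotientGroup.mk_surjective b
        rw [← QuotientGroup.mk_mul, ← QuotientGroup.mk_mul, QuotientGroup.eq, mem_subgroupOf]
        have := hMN _ (M.inv_mem b.2) _ (M.inv_mem a.2)
        simpa [commutatorElement_def, mul_assoc] using this }
  have hmap : ∀ h : K, (N.subgroupOf M).map (H1.conjAut hM h : M →* M) = N.subgroupOf M := by
    intro h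
    ext x
    constructor
    · rintro ⟨y, hy, rfl⟩
      exact H1.conj_mem_of_le_normalizer hN h.2 hy
    · intro hx
      refine ⟨H1.conjAut hM h⁻¹ x, H1.conj_mem_of_le_normalizer hN (h⁻¹).2 hx, ?_⟩
      change (H1.conjAut hM h * H1.conjAut hM h⁻¹) x = x
      rw [← map_mul, mul_inv_cancel, map_one]; rfl
  let ρ : K → Additive (M ⧸ N.subgroupOf M) ≃+ Additive (M ⧸ N.subgroupOf M) := fun h =>
    MulEquiv.toAdditive (QuotientGroup.congr _ _ (H1.conjAut hM h) (hmap h))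
  have hρ : ∀ (h : K) (x : M), ρ h (Additive.ofMul (x : M ⧸ N.subgroupOf M)) =
      Additive.ofMul ((H1.conjAut hM h x : M) : M ⧸ N.subgroupOf M) := fun h x => rfl
  have hsurj : ∀ v : Additive (M ⧸ N.subgroupOf M), ∃ x : M,
      v = Additive.ofMul (x : M ⧸ N.subgroupOf M) := fun v => by
    obtain ⟨x, hx⟩ := QuotientGroup.mk_surjective (Additive.toMul v)
    exact ⟨x, by rw [hx]; rfl⟩
  have hz : ∀ x : M, Additive.ofMul (x : M ⧸ N.subgroupOf M) = 0 ↔ (x : G) ∈ N := fun x => by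
    rw [ofMul_eq_zero, QuotientGroup.eq_one_iff, mem_subgroupOf]
  obtain ⟨F', _, φ, hφe, hφ⟩ := L.exists_field_of_transitive ρ
    (fun v => by obtain ⟨x, rfl⟩ := hsurj v; rw [hρ, map_one]; rfl)
    (fun a b v => by obtain ⟨x, rfl⟩ := hsurj v; rw [hρ, hρ, hρ, map_mul]; rfl)
    (fun a b => hK.is_comm.comm a b) (Additive.ofMul ((⟨e, he⟩ : M) : M ⧸ N.subgroupOf M))
    (by rw [Ne, hz]; exact heN)
    (fun v hv => by
      obtain ⟨x, rfl⟩ := hsurj v
      rw [Ne, hz] at hv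
      obtain ⟨h, hh, hx⟩ := htr x x.2 hv
      refine ⟨⟨h, hh⟩, ?_⟩
      rw [hρ]
      congr 1
      rw [QuotientGroup.eq, mem_subgroupOf]
      exact hx)
  have : Finite F' := Finite.of_equiv _ φ.toEquiv
  let _ : Fintype F' := Fintype.ofFinite F'
  have hc : Fintype.card F' = Fintype.card F := by
    rw [hcard, ← Nat.card_eq_fintype_card, ← Nat.card_congr φ.toEquiv]; rfl
  let ι : F' ≃+* F := FiniteField.ringEquivOfCardEq hc
  let p : G → F := fun x =>
    if h : x ∈ M then ι (φ (Additive.ofMul ((⟨x, h⟩ : M) : M ⧸ N.subgroupOf M))) else 0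
  have hp : ∀ x : M, p x = ι (φ (Additive.ofMul (x : M ⧸ N.subgroupOf M))) := fun x =>
    dif_pos x.2
  have hpe : p e = 1 := by rw [hp ⟨e, he⟩, hφe, map_one]
  have hker : ∀ x ∈ M, p x = 0 ↔ x ∈ N := fun x hx => by
    rw [hp ⟨x, hx⟩, map_eq_zero_iff _ ι.injective, map_eq_zero_iff _ φ.injective, hz]
  have hadd : ∀ x ∈ M, ∀ y ∈ M, p (x * y) = p x + p y := fun x hx y hy => by
    rw [hp ⟨x, hx⟩, hp ⟨y, hy⟩, hp ⟨x * y, M.mul_mem hx hy⟩, ← map_add, ← map_add]; rfl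
  have hconj : ∀ h ∈ K, ∀ x ∈ M, p (h * x * h⁻¹) = p (h * e * h⁻¹) * p x := fun h hh x hx => by
    have := hφ ⟨h, hh⟩ (Additive.ofMul ((⟨x, hx⟩ : M) : M ⧸ N.subgroupOf M))
    rw [hρ, hρ] at this
    rw [hp ⟨x, hx⟩, hp ⟨_, H1.conj_mem_of_le_normalizer hM hh hx⟩,
      hp ⟨_, H1.conj_mem_of_le_normalizer hM hh he⟩, ← map_mul]
    exact congrArg ι this
  have hinv : ∀ x ∈ M, p x⁻¹ = -p x := fun x hx => by
    have h1 : p 1 = 0 := (hker 1 M.one_mem).mpr N.one_mem
    have := hadd x hx _ (M.inv_mem hx)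
    rw [mul_inv_cancel, h1] at this
    linear_combination -this
  have hne : ∀ h ∈ K, p (h * e * h⁻¹) ≠ 0 := fun h hh h0 => by
    rw [hker _ (H1.conj_mem_of_le_normalizer hM hh he)] at h0
    apply heN
    have := H1.conj_mem_of_le_normalizer' hN hh h0
    simpa [mul_assoc] using this
  let κ : K →* Fˣ := MonoidHom.mk' (fun h => Units.mk0 _ (hne h h.2)) fun a b => by
    ext
    simp only [Units.val_mk0, Units.val_mul, coe_mul]
    rw [← hconj a a.2 _ (H1.conj_mem_of_le_normalizer hM b.2 he)]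
    congr 1; group
  have hκ : Function.Bijective κ := by
    constructor
    · rw [injective_iff_map_eq_one]
      intro h hh
      have h1 : p (h * e * (h : G)⁻¹) = 1 := congrArg Units.val hh
      have h2 := H1.conj_mem_of_le_normalizer hM h.2 he
      refine Subtype.ext (hfree h h.2 ?_)
      rw [← hker _ (M.mul_mem (M.inv_mem h2) he), hadd _ (M.inv_mem h2) _ he, hinv _ h2, h1, hpe]
      simp
    · intro a
      obtain ⟨x, hx⟩ := hsurj (φ.symm (ι.symm a))
      have h1 : p x = a := by rw [hp, ← hx]; simp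
      have h2 : (x : G) ∉ N := by rw [← hker _ x.2, h1]; exact a.ne_zero
      obtain ⟨h, hh, hx'⟩ := htr x x.2 h2
      refine ⟨⟨h, hh⟩, Units.ext ?_⟩
      have h3 := H1.conj_mem_of_le_normalizer hM hh he
      rw [← hker _ (M.mul_mem (M.inv_mem h3) x.2), hadd _ (M.inv_mem h3) _ x.2, hinv _ h3,
        h1] at hx'
      change p (h * e * h⁻¹) = a
      linear_combination -hx'
  let ε := MulEquiv.ofBijective κ hκ
  refine ⟨p, K.subtype.comp ε.symm.toMonoidHom, ⟨hadd, hker, fun a => ?_, ?_, ?_, ?_⟩, hpe⟩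
  · obtain ⟨x, hx⟩ := hsurj (φ.symm (ι.symm a))
    exact ⟨x, x.2, by rw [hp, ← hx]; simp⟩
  · exact K.subtype_injective.comp ε.symm.injective
  · ext g
    constructor
    · rintro ⟨a, rfl⟩
      exact (ε.symm a).2
    · intro hg
      exact ⟨ε ⟨g, hg⟩, by simp⟩
  · intro a x hx
    have := hconj _ (ε.symm a).2 x hx
    have h2 : p ((ε.symm a : G) * e * (ε.symm a : G)⁻¹) = a :=
      congrArg Units.val (ε.apply_symm_apply a)
    rw [h2] at this
    exact this

namespace SecField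

variable {M N K : Subgroup G} {p : G → F} {k : Fˣ →* G}

theorem one (h : SecField M N K p k) : p 1 = 0 := (h.ker 1 M.one_mem).mpr N.one_mem

theorem inv (h : SecField M N K p k) {x : G} (hx : x ∈ M) : p x⁻¹ = -p x := by
  have := h.add x hx _ (M.inv_mem hx)
  rw [mul_inv_cancel, h.one] at this
  linear_combination -this

theorem eq_iff (h : SecField M N K p k) {x y : G} (hx : x ∈ M) (hy : y ∈ M) :
    p x = p y ↔ x⁻¹ * y ∈ N := by
  rw [← h.ker _ (M.mul_mem (M.inv_mem hx) hy), h.add _ (M.inv_mem hx) _ hy, h.inv hx]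
  constructor
  · intro e; rw [e]; ring
  · intro e; linear_combination -e

theorem mem (h : SecField M N K p k) (κ : Fˣ) : k κ ∈ K := h.range ▸ ⟨κ, rfl⟩

theorem exists_eq (h : SecField M N K p k) {g : G} (hg : g ∈ K) : ∃ κ, k κ = g := by
  rw [← h.range] at hg; exact hg

theorem card_K [Fintype F] (h : SecField M N K p k) : 𝐨(K) = Fintype.card F - 1 := by
  classical
  rw [← h.range, ← Fintype.card_units, ← Nat.card_eq_fintype_card]
  exact (Nat.card_congr (MonoidHom.ofInjective h.inj).toEquiv).symm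

theorem charP (h : SecField M N K p k) (h2 : ∀ x ∈ M, x * x ∈ N) : CharP F 2 := by
  obtain ⟨x, hx, h1⟩ := h.surj 1
  have := (h.ker _ (M.mul_mem hx hx)).mpr (h2 x hx)
  rw [h.add x hx x hx, h1] at this
  exact (CharP.charP_iff_prime_eq_zero Nat.prime_two).mpr (by rw [← this]; norm_num)

end SecField

/-- An equivariant biadditive map `C / A × F → F` is monomial. -/
theorem monomial [Fintype F] [CharP F 2] (h2 : 2 < Fintype.card F) {C A K : Subgroup G}
    {k : Fˣ →* G} (hk : k.range = K) (hAC : A ≤ C) (nC : K ≤ 𝐍(C))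
    (irr : ∀ W : Subgroup G, A ≤ W → W ≤ C → K ≤ 𝐍(W) → W = A ∨ W = C)
    (fpf : ∀ κ : Fˣ, κ ≠ 1 → ∀ u ∈ C, (k κ * u * (k κ)⁻¹)⁻¹ * u ∈ A → u ∈ A) [Finite G]
    (η : G → F →+ F) (hmul : ∀ u ∈ C, ∀ v ∈ C, η (u * v) = η u + η v) (hA : ∀ u ∈ A, η u = 0)
    (hconj : ∀ κ : Fˣ, ∀ u ∈ C, ∀ x, η (k κ * u * (k κ)⁻¹) (κ * x) = κ * η u x)
    (hne : ∃ u ∈ C, η u ≠ 0) :
    ∃ (σ : F ≃+* F) (c : G → F), (∀ u ∈ C, ∀ x, η u x = c u * σ x) ∧
      (∀ u ∈ C, ∀ v ∈ C, c u = c v → u⁻¹ * v ∈ A) ∧ (∀ u ∈ C, c u = 0 → u ∈ A) ∧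
      ∀ κ, σ κ = κ → κ = 0 ∨ κ = 1 := by
  classical
  have t : (2 : F) = 0 := two_eq
  have hkK : ∀ κ, k κ ∈ K := fun κ => hk ▸ ⟨κ, rfl⟩
  have hcC : ∀ κ, ∀ u ∈ C, k κ * u * (k κ)⁻¹ ∈ C := fun κ u hu =>
    H1.conj_mem_of_le_normalizer nC (hkK κ) hu
  have cadd : ∀ σ, ∀ u ∈ C, ∀ v ∈ C, coef (η (u * v)) σ = coef (η u) σ + coef (η v) σ :=
    fun σ u hu v hv => by rw [hmul u hu v hv, coef_add]
  have cA : ∀ σ, ∀ u ∈ A, coef (η u) σ = 0 := fun σ u hu => by rw [hA u hu, coef_zero]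
  have cinv : ∀ σ, ∀ u ∈ C, coef (η u⁻¹) σ = coef (η u) σ := fun σ u hu => by
    have := cadd σ u hu _ (C.inv_mem hu)
    rw [mul_inv_cancel, cA σ 1 A.one_mem] at this
    linear_combination -this - coef (η u) σ * t
  have cconj : ∀ σ (κ : Fˣ), ∀ u ∈ C,
      coef (η (k κ * u * (k κ)⁻¹)) σ = κ / σ κ * coef (η u) σ := fun σ κ u hu => by
    have := coef_equivar (hconj κ u hu) σ
    have h0 : σ κ ≠ 0 := by simp
    field_simp
    linear_combination this
  have cker : ∀ σ, (∃ u ∈ C, coef (η u) σ ≠ 0) → ∀ u ∈ C, coef (η u) σ = 0 → u ∈ A := by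
    rintro σ ⟨u₀, hu₀, h₀⟩
    let W : Subgroup G :=
      { carrier := {u | u ∈ C ∧ coef (η u) σ = 0}
        one_mem' := ⟨C.one_mem, cA σ 1 A.one_mem⟩
        mul_mem' := fun {a b} ha hb => ⟨C.mul_mem ha.1 hb.1, by
          rw [cadd σ a ha.1 b hb.1, ha.2, hb.2, add_zero]⟩
        inv_mem' := fun {a} ha => ⟨C.inv_mem ha.1, by rw [cinv σ a ha.1, ha.2]⟩ }
    have hW : K ≤ 𝐍(W) := by
      intro g hg
      refine mem_norm_of_conj_le fun x hx => ?_
      obtain ⟨y, hy, rfl⟩ := mem_conj'.mp hx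
      rw [← hk] at hg
      obtain ⟨κ, rfl⟩ := hg
      exact ⟨hcC κ y hy.1, by rw [cconj σ κ y hy.1, hy.2, mul_zero]⟩
    rcases irr W (fun a ha => ⟨hAC ha, cA σ a ha⟩) (fun a ha => ha.1) hW with h | h
    · intro u hu h0
      rw [← h]; exact ⟨hu, h0⟩
    · have : u₀ ∈ W := h ▸ hu₀
      exact absurd this.2 h₀
  have ceq : ∀ σ, (∃ u ∈ C, coef (η u) σ ≠ 0) → ∀ u ∈ C, ∀ v ∈ C,
      coef (η u) σ = coef (η v) σ → u⁻¹ * v ∈ A := fun σ hσ u hu v hv e => by
    refine cker σ hσ _ (C.mul_mem (C.inv_mem hu) hv) ?_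
    rw [cadd σ _ (C.inv_mem hu) v hv, cinv σ u hu, e]
    linear_combination coef (η v) σ * t
  have cfix : ∀ σ, (∃ u ∈ C, coef (η u) σ ≠ 0) → ∀ κ, σ κ = κ → κ = 0 ∨ κ = 1 := by
    intro σ hσ κ hκ
    by_contra hn
    push Not at hn
    obtain ⟨u, hu, h0⟩ := id hσ
    refine h0 (cA σ u (fpf (Units.mk0 κ hn.1) (fun e => hn.2 (congrArg Units.val e)) u hu ?_))
    refine ceq σ hσ _ (hcC _ u hu) u hu ?_
    rw [cconj σ _ u hu, Units.val_mk0, hκ, div_self hn.1, one_mul]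
  have csurj : ∀ σ, (∃ u ∈ C, coef (η u) σ ≠ 0) → ∀ x : F, x ≠ 0 → ∃ κ : Fˣ, κ / σ κ = x := by
    intro σ hσ x hx
    let f : Fˣ → Fˣ := fun κ => Units.mk0 (κ / σ κ) (by simp)
    have hf : Function.Injective f := fun a b e => by
      have e' : (a : F) / σ a = b / σ b := congrArg Units.val e
      have ha : σ a ≠ 0 := by simp
      have hb : σ b ≠ 0 := by simp
      have hb' : (b : F) ≠ 0 := b.ne_zero
      have : σ (a / b) = a / b := by
        rw [map_div₀]
        field_simp at e' ⊢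
        linear_combination -e'
      rcases cfix σ hσ _ this with h | h
      · simp at h
      · ext; field_simp at h; exact h
    obtain ⟨κ, hκ⟩ := Finite.surjective_of_injective hf (Units.mk0 x hx)
    exact ⟨κ, congrArg Units.val hκ⟩
  obtain ⟨σ, hσ⟩ : ∃ σ, ∃ u ∈ C, coef (η u) σ ≠ 0 := by
    by_contra hn
    push Not at hn
    obtain ⟨u, hu, h0⟩ := hne
    exact h0 (eq_zero_of_coef fun σ => hn σ u hu)
  refine ⟨σ, fun u => coef (η u) σ, fun u hu x => eq_mul_of_coef (fun τ hτ => ?_) x,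
    ceq σ hσ, cker σ hσ, cfix σ hσ⟩
  by_contra h0
  have hτ' : ∃ u ∈ C, coef (η u) τ ≠ 0 := ⟨u, hu, h0⟩
  have huA : u ∉ A := fun h => h0 (cA τ u h)
  have h0' : coef (η u) σ ≠ 0 := fun h => huA (cker σ hσ u hu h)
  have ex : ∀ x : F, ∃ v ∈ C, coef (η v) σ = x * coef (η u) σ := fun x => by
    by_cases hx : x = 0
    · exact ⟨1, C.one_mem, by rw [cA σ 1 A.one_mem, hx, zero_mul]⟩
    obtain ⟨κ, rfl⟩ := csurj σ hσ x hx
    exact ⟨_, hcC κ u hu, cconj σ κ u hu⟩
  choose v hvC hv using ex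
  let ρ₀ : F → F := fun x => coef (η (v x)) τ / coef (η u) τ
  have hρ : ∀ x, ∀ w ∈ C, coef (η w) σ = x * coef (η u) σ →
      ρ₀ x = coef (η w) τ / coef (η u) τ := fun x w hw e => by
    have h1 := cA τ _ (ceq σ hσ _ (hvC x) w hw (by rw [hv, e]))
    rw [cadd τ _ (C.inv_mem (hvC x)) w hw, cinv τ _ (hvC x)] at h1
    simp only [ρ₀]
    congr 1
    linear_combination h1 - coef (η w) τ * t
  have hρκ : ∀ κ : Fˣ, ρ₀ (κ / σ κ) = κ / τ κ := fun κ => by
    rw [hρ _ _ (hcC κ u hu) (cconj σ κ u hu), cconj τ κ u hu]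
    field_simp
  have hρ0 : ρ₀ 0 = 0 := by
    rw [hρ 0 1 C.one_mem (by rw [cA σ 1 A.one_mem, zero_mul]), cA τ 1 A.one_mem, zero_div]
  let ρ₁ : F →+* F :=
    { toFun := ρ₀
      map_zero' := hρ0
      map_one' := by simpa using hρκ 1
      map_add' := fun x y => by
        rw [hρ (x + y) _ (C.mul_mem (hvC x) (hvC y))
          (by rw [cadd σ _ (hvC x) _ (hvC y), hv, hv, add_mul]), cadd τ _ (hvC x) _ (hvC y),
          add_div]
      map_mul' := fun x y => by
        by_cases hx : x = 0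
        · simp [hx, hρ0]
        by_cases hy : y = 0
        · simp [hy, hρ0]
        obtain ⟨a, rfl⟩ := csurj σ hσ x hx
        obtain ⟨b, rfl⟩ := csurj σ hσ y hy
        have := hρκ (a * b)
        simp only [Units.val_mul, map_mul] at this
        rw [hρκ, hρκ, div_mul_div_comm, this, div_mul_div_comm] }
  let ρ : F ≃+* F := RingEquiv.ofBijective ρ₁ (Finite.injective_iff_bijective.mp ρ₁.injective)
  have key : ∀ x, ρ x * τ x = RingEquiv.refl F x * (σ.trans ρ) x := fun x => by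
    by_cases hx : x = 0
    · simp [hx]
    have h1 : ρ (x / σ x) = x / τ x := hρκ (Units.mk0 x hx)
    have h3 : τ x ≠ 0 := by simpa using hx
    have h4 : ρ (σ x) ≠ 0 := by simpa using hx
    rw [map_div₀] at h1
    simp only [RingEquiv.refl_apply, RingEquiv.coe_trans, Function.comp_apply]
    field_simp at h1
    linear_combination h1
  rcases two_two key with ⟨h1, h3⟩ | ⟨_, h3⟩
  · apply hτ
    rw [h3, h1]; rfl
  · obtain ⟨x, hx⟩ : ∃ x : F, x ∉ ({0, 1} : Finset F) := by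
      by_contra hn
      push Not at hn
      have := Finset.card_le_card (s := Finset.univ) (t := ({0, 1} : Finset F)) fun x _ => hn x
      have h5 := Finset.card_le_two (a := (0 : F)) (b := 1)
      rw [Finset.card_univ] at this
      omega
    have := cfix τ hτ' x (by rw [h3]; rfl)
    simp at hx
    tauto

end Cfsg.Agent.P2
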