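/-
P2: elementary structure of Zassenhaus groups of odd degree.
-/
import Cfsg.Agent.FT.BG03a
import Cfsg.Agent.L.Invol
import Cfsg.Agent.P2.TwoGroup

set_option autoImplicit false
set_option linter.unusedSectionVars false

namespace Cfsg.Agent.P2

open Subgroup Cfsg Cfsg.Agent Cfsg.Agent.FT
open scoped commutatorElement

universe u

variable {G : Type u} [Group G] [Finite G]

/-- `G = B ∪ B t Q` with `B = Q H` a Frobenius group with kernel `Q` of even order and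
`B ∩ B^t = H`. -/
structure ZT (Q H : Subgroup G) (t : G) : Prop where
  frob : Frob Q H
  even : Even 𝐨(Q)
  tt : t * t = 1
  tH : t ∈ 𝐍(H)
  bruhat : ∀ g, g ∈ Q ⊔ H ∨ ∃ x ∈ Q ⊔ H, ∃ y ∈ Q, g = x * t * y
  inter : ∀ x ∈ Q ⊔ H, t * x * t ∈ Q ⊔ H → x ∈ H

theorem ncard_bruhat {B Q : Subgroup G} {t : G} (hQ : Q ≤ B) (ht : t ∉ B)
    (hu : ∀ x ∈ B, ∀ y ∈ Q, x * t * y = t → y = 1) :
    {g | g ∈ B ∨ ∃ x ∈ B, ∃ y ∈ Q, g = x * t * y}.ncard = 𝐨(B) * (𝐨(Q) + 1) := by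
  let f : B ⊕ B × Q → G := Sum.elim (fun x => x) fun p => p.1 * t * p.2
  have hn : ∀ (a b : B) (y : Q), (a : G) ≠ b * t * y := fun a b y e => ht (by
    have : t = (b : G)⁻¹ * a * (y : G)⁻¹ := by rw [e]; group
    rw [this]
    exact B.mul_mem (B.mul_mem (B.inv_mem b.2) a.2) (B.inv_mem (hQ y.2)))
  have hf : Function.Injective f := by
    rintro (a | ⟨a, y⟩) (b | ⟨b, z⟩) e
    · exact congrArg _ (Subtype.ext e)
    · exact absurd e (hn _ _ _)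
    · exact absurd e.symm (hn _ _ _)
    · change (a : G) * t * y = b * t * z at e
      have h1 := hu _ (B.mul_mem (B.inv_mem b.2) a.2) _ (Q.mul_mem y.2 (Q.inv_mem z.2))
        (by rw [← mul_assoc, mul_assoc (b : G)⁻¹, mul_assoc (b : G)⁻¹, e]; group)
      have h2 : y = z := Subtype.ext (mul_inv_eq_one.mp h1)
      subst h2
      rw [show a = b from Subtype.ext (mul_right_cancel (mul_right_cancel e))]
  have hr : Set.range f = {g | g ∈ B ∨ ∃ x ∈ B, ∃ y ∈ Q, g = x * t * y} := by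
    ext g
    constructor
    · rintro ⟨a | ⟨a, y⟩, rfl⟩
      · exact Or.inl a.2
      · exact Or.inr ⟨a, a.2, y, y.2, rfl⟩
    · rintro (h | ⟨x, hx, y, hy, rfl⟩)
      · exact ⟨Sum.inl ⟨g, h⟩, rfl⟩
      · exact ⟨Sum.inr ⟨⟨x, hx⟩, ⟨y, hy⟩⟩, rfl⟩
  rw [← hr, Set.ncard_range_of_injective hf, Nat.card_sum, Nat.card_prod]
  ring

namespace ZT

variable {Q H : Subgroup G} {t : G}

theorem t_inv (h : ZT Q H t) : t⁻¹ = t := inv_eq_of_mul_eq_one_right h.tt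

theorem mem_B (h : ZT Q H t) {x : G} : x ∈ Q ⊔ H ↔ ∃ y ∈ Q, ∃ k ∈ H, y * k = x := by
  rw [sup_comm]; exact H1.mem_sup_iff_of_le_normalizer' h.frob.norm

theorem mem_B' (h : ZT Q H t) {x : G} : x ∈ Q ⊔ H ↔ ∃ k ∈ H, ∃ y ∈ Q, k * y = x := by
  rw [sup_comm]; exact H1.mem_sup_iff_of_le_normalizer h.frob.norm

theorem normQ (h : ZT Q H t) : Q ⊔ H ≤ 𝐍(Q) := sup_le le_normalizer h.frob.norm

theorem eq_one (h : ZT Q H t) {x : G} (hQ : x ∈ Q) (hH : x ∈ H) : x = 1 :=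
  mem_bot.mp (h.frob.reg.disj ▸ (⟨hQ, hH⟩ : x ∈ Q ⊓ H))

theorem eq_one_of_conj (h : ZT Q H t) {y : G} (hy : y ∈ Q) (hB : t * y * t ∈ Q ⊔ H) : y = 1 :=
  h.eq_one hy (h.inter y (mem_sup_left hy) hB)

theorem t_notMem (h : ZT Q H t) : t ∉ Q ⊔ H := fun ht => by
  obtain ⟨⟨x, hx⟩, h1⟩ := ne_bot_iff_exists_ne_one.mp h.frob.ne_botK
  exact h1 (Subtype.ext (h.eq_one_of_conj hx (mul_mem (mul_mem ht (mem_sup_left hx)) ht)))

theorem uniq (h : ZT Q H t) {x x' y y' : G} (hx : x ∈ Q ⊔ H) (hx' : x' ∈ Q ⊔ H) (hy : y ∈ Q)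
    (hy' : y' ∈ Q) (e : x * t * y = x' * t * y') : y = y' := by
  have : t * (y' * y⁻¹) * t = x'⁻¹ * x := by
    calc t * (y' * y⁻¹) * t = x'⁻¹ * (x' * t * y') * y⁻¹ * t := by group
      _ = x'⁻¹ * x * (t * t) := by rw [← e]; group
      _ = _ := by rw [h.tt, mul_one]
  have := h.eq_one_of_conj (Q.mul_mem hy' (Q.inv_mem hy)) (this ▸ mul_mem (inv_mem hx') hx)
  exact (mul_inv_eq_one.mp this).symm

theorem ti (h : ZT Q H t) {x g : G} (hx : x ∈ Q) (h1 : x ≠ 1) (hg : g * x * g⁻¹ ∈ Q ⊔ H) :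
    g ∈ Q ⊔ H := by
  rcases h.bruhat g with hB | ⟨b, hb, y, hy, rfl⟩
  · exact hB
  refine absurd ?_ h1
  have : t * (y * x * y⁻¹) * t ∈ Q ⊔ H := by
    have e : t * (y * x * y⁻¹) * t = b⁻¹ * (b * t * y * x * (b * t * y)⁻¹) * b := by
      rw [mul_inv_rev, mul_inv_rev, h.t_inv]; group
    rw [e]
    exact mul_mem (mul_mem (inv_mem hb) hg) hb
  have := h.eq_one_of_conj (Q.mul_mem (Q.mul_mem hy hx) (Q.inv_mem hy)) this
  simpa using this

theorem normedTI (h : ZT Q H t) : NormedTI (sharp Q) ⊤ (Q ⊔ H) where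
  nonempty := sharp_nonempty.mpr h.frob.ne_botK
  one_notMem := fun h1 => h1.2 rfl
  subset := fun _ hx => mem_sup_left hx.1
  le := le_top
  norm := fun g hg a ha => ⟨H1.conj_mem_of_le_normalizer h.normQ hg ha.1, by simpa using ha.2⟩
  ti := fun _ _ _ ha hg => h.ti ha.1 ha.2 (mem_sup_left hg.1)

theorem cent (h : ZT Q H t) {x g : G} (hx : x ∈ Q) (h1 : x ≠ 1) (hc : Commute x g) : g ∈ Q :=
  h.frob.cent1_le hx h1 ⟨h.ti hx h1 (by
    rw [← hc.eq, mul_inv_cancel_right]; exact mem_sup_left hx), mem_cent1_iff_commute.mpr hc⟩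

theorem card_B (h : ZT Q H t) : 𝐨((Q ⊔ H : Subgroup G)) = 𝐨(Q) * 𝐨(H) := by
  rw [sup_comm, H1.card_sup_of_inf_eq_bot h.frob.norm (by rw [inf_comm, h.frob.reg.disj]), mul_comm]

theorem relIndex_B (h : ZT Q H t) : Q.relIndex (Q ⊔ H) = 𝐨(H) :=
  Nat.eq_of_mul_eq_mul_left Nat.card_pos ((H1.card_mul_relIndex le_sup_left).trans h.card_B)

theorem card_G (h : ZT Q H t) : Nat.card G = 𝐨(Q) * 𝐨(H) * (𝐨(Q) + 1) := by
  rw [← h.card_B, ← ncard_bruhat le_sup_left h.t_notMem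
    (fun x hx y hy e => h.uniq hx (one_mem _) hy (one_mem _) (by simpa using e)), ← Set.ncard_univ]
  congr 1
  exact (Set.eq_univ_of_forall h.bruhat).symm

theorem index_B (h : ZT Q H t) : (Q ⊔ H).index = 𝐨(Q) + 1 :=
  Nat.eq_of_mul_eq_mul_left Nat.card_pos
    ((Q ⊔ H).card_mul_index.trans (by rw [h.card_G, h.card_B]))

theorem odd (h : ZT Q H t) : Odd 𝐨(H) :=
  Nat.coprime_two_left.mp (Nat.Coprime.coprime_dvd_left h.even.two_dvd h.frob.coprime)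

theorem exists_invol (h : ZT Q H t) : ∃ s ∈ Q, s ≠ 1 ∧ s * s = 1 := by
  have : Fact (Nat.Prime 2) := ⟨Nat.prime_two⟩
  obtain ⟨s, hs⟩ := exists_prime_orderOf_dvd_card' (G := Q) 2 h.even.two_dvd
  refine ⟨s, s.2, fun e => ?_, ?_⟩
  · rw [show s = 1 from Subtype.ext e, orderOf_one] at hs
    omega
  · have := pow_orderOf_eq_one s
    rw [hs, pow_two] at this
    exact congrArg Subtype.val this

theorem odd_order (h : ZT Q H t) {s : G} (hs : s ∈ Q) (h1 : s ≠ 1) (hss : s * s = 1) :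
    Odd (orderOf (s * t)) := by
  by_contra hn
  obtain ⟨k, k1, -, k2, k3⟩ := L.exists_invol_commute_of_even hss h.tt (Nat.not_odd_iff_even.mp hn)
  exact h.t_notMem (mem_sup_left (h.cent (h.cent hs h1 k2.symm) k1 k3))

theorem conj_t (h : ZT Q H t) {s : G} (hs : s ∈ Q) (h1 : s ≠ 1) (hss : s * s = 1) :
    ∃ v : G, v * s * v⁻¹ = t := by
  obtain ⟨k, k1, k2⟩ := L.exists_invol_conj_of_odd hss h.tt (h.odd_order hs h1 hss)
  exact ⟨_, by rw [inv_eq_of_mul_eq_one_right k1, k2]⟩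

theorem inverts (h : ZT Q H t) : ∀ k ∈ H, t * k * t = k⁻¹ := by
  refine L.inverts_of_fpf h.tt h.tH fun a ha hc => ?_
  obtain ⟨s, hs, h1, hss⟩ := h.exists_invol
  obtain ⟨v, hv⟩ := h.conj_t hs h1 hss
  have h2 : v⁻¹ * a * v ∈ Q := h.cent hs h1 (by
    have : s = v⁻¹ * t * v := by rw [← hv]; group
    rw [this, Commute, SemiconjBy]
    calc v⁻¹ * t * v * (v⁻¹ * a * v) = v⁻¹ * (t * a) * v := by group
      _ = _ := by rw [hc.eq]; group)
  have h3 : orderOf a ∣ 𝐨(Q) := by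
    have := orderOf_dvd_natCard (⟨_, h2⟩ : Q)
    rw [← orderOf_submonoid] at this
    have e : orderOf (v⁻¹ * a * v) = orderOf a := by
      simpa using (MulAut.conj v⁻¹).orderOf_eq a
    exact e ▸ this
  have h4 : orderOf a ∣ 𝐨(H) := by
    have := orderOf_dvd_natCard (⟨_, ha⟩ : H)
    rwa [← orderOf_submonoid] at this
  exact orderOf_eq_one_iff.mp (Nat.eq_one_of_dvd_coprimes h.frob.coprime h3 h4)

theorem t_mul (h : ZT Q H t) {k : G} (hk : k ∈ H) : t * k = k⁻¹ * t := by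
  rw [← h.inverts k hk, mul_assoc, h.tt, mul_one]

theorem commH (h : ZT Q H t) : IsMulCommutative H :=
  ⟨⟨fun a b => Subtype.ext (L.commute_of_inverts h.tt h.inverts a.2 b.2)⟩⟩

theorem conj_invol (h : ZT Q H t) {s s' : G} (hs : s ∈ Q) (h1 : s ≠ 1) (hss : s * s = 1)
    (hs' : s' ∈ Q) (h1' : s' ≠ 1) (hss' : s' * s' = 1) : ∃ g ∈ Q ⊔ H, g * s * g⁻¹ = s' := by
  obtain ⟨v, hv⟩ := h.conj_t hs h1 hss
  obtain ⟨w, hw⟩ := h.conj_t hs' h1' hss'
  have e : w⁻¹ * v * s * (w⁻¹ * v)⁻¹ = s' := by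
    calc _ = w⁻¹ * (v * s * v⁻¹) * w := by group
      _ = _ := by rw [hv, ← hw]; group
  exact ⟨_, h.ti hs h1 (e ▸ mem_sup_left hs'), e⟩

theorem central (h : ZT Q H t) {s x : G} (hs : s ∈ Q) (hss : s * s = 1) (hx : x ∈ Q) :
    Commute x s := by
  by_cases h1 : s = 1
  · rw [h1]; exact Commute.one_right x
  have hN := h.frob.nilpotent
  have hP := pCoreOf_normal 2 Q
  have hP2 := isSyl_pCoreOf_of_isNilpotent Nat.prime_two hN
  have hne : pCoreOf 2 Q ≠ ⊥ := fun e => hP2.ndvd (by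
    rw [e, relIndex_bot_left]; exact h.even.two_dvd)
  have hc := inf_center_ne_bot hN hP hne
  have : Fact (Nat.Prime 2) := ⟨Nat.prime_two⟩
  obtain ⟨z, hz⟩ := exists_prime_orderOf_dvd_card' (G := ↥(pCoreOf 2 Q ⊓ 𝐂(Q))) 2
    (prime_dvd_card_of_isPGroup Nat.prime_two (hP2.pgrp.to_le inf_le_left) hc)
  have z1 : (z : G) ≠ 1 := fun e => by
    rw [show z = 1 from Subtype.ext e, orderOf_one] at hz
    omega
  have z2 : (z : G) * z = 1 := by
    have := pow_orderOf_eq_one z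
    rw [hz, pow_two] at this
    exact congrArg Subtype.val this
  obtain ⟨g, hg, rfl⟩ := h.conj_invol (hP.1 z.2.1) z1 z2 hs h1 hss
  have := mem_cent.mp z.2.2 _ (H1.conj_mem_of_le_normalizer' h.normQ hg hx)
  calc x * (g * z * g⁻¹) = g * (g⁻¹ * x * g * z) * g⁻¹ := by group
    _ = _ := by rw [this]; group

theorem trans (h : ZT Q H t) {s s' : G} (hs : s ∈ Q) (h1 : s ≠ 1) (hss : s * s = 1)
    (hs' : s' ∈ Q) (h1' : s' ≠ 1) (hss' : s' * s' = 1) : ∃ k ∈ H, k * s * k⁻¹ = s' := by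
  obtain ⟨g, hg, e⟩ := h.conj_invol hs h1 hss hs' h1' hss'
  obtain ⟨k, hk, y, hy, rfl⟩ := h.mem_B'.mp hg
  refine ⟨k, hk, ?_⟩
  rw [← e, mul_assoc k y, (h.central hs hss hy).eq]; group

/-- The subgroup of involutions of `Q`. -/
def Z (h : ZT Q H t) : Subgroup G where
  carrier := {x | x ∈ Q ∧ x * x = 1}
  one_mem' := ⟨Q.one_mem, mul_one 1⟩
  mul_mem' := fun {a b} ha hb => ⟨Q.mul_mem ha.1 hb.1, by
    rw [mul_assoc, ← mul_assoc b, ← (h.central hb.1 hb.2 ha.1).eq, mul_assoc, hb.2, mul_one, ha.2]⟩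
  inv_mem' := fun {a} ha => ⟨Q.inv_mem ha.1, by rw [← mul_inv_rev, ha.2, inv_one]⟩

theorem mem_Z (h : ZT Q H t) {x : G} : x ∈ h.Z ↔ x ∈ Q ∧ x * x = 1 := Iff.rfl

theorem Z_le (h : ZT Q H t) : h.Z ≤ Q := fun _ hx => hx.1

theorem normZ (h : ZT Q H t) : Q ⊔ H ≤ 𝐍(h.Z) := fun g hg =>
  mem_norm_of_conj_le fun x hx => by
    obtain ⟨y, hy, rfl⟩ := mem_conj'.mp hx
    refine ⟨H1.conj_mem_of_le_normalizer h.normQ hg hy.1, ?_⟩
    rw [show g * y * g⁻¹ * (g * y * g⁻¹) = g * (y * y) * g⁻¹ by group, hy.2]; group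

theorem card_Z (h : ZT Q H t) : 𝐨(h.Z) = 𝐨(H) + 1 := by
  obtain ⟨s, hs, h1, hss⟩ := h.exists_invol
  let f : H → sharp h.Z := fun k => ⟨k * s * (k : G)⁻¹,
    H1.conj_mem_of_le_normalizer h.normZ (mem_sup_right k.2) ⟨hs, hss⟩, by simpa using h1⟩
  have hf : Function.Bijective f := by
    constructor
    · intro a b e
      have e' : (a : G) * s * (a : G)⁻¹ = b * s * (b : G)⁻¹ := congrArg Subtype.val e
      by_contra hn
      refine h1 (semiReg_iff.mp h.frob.reg ((b : G)⁻¹ * a) (H.mul_mem (H.inv_mem b.2) a.2)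
        (fun e2 => hn (Subtype.ext (inv_mul_eq_one.mp e2).symm)) s hs ?_)
      calc (b : G)⁻¹ * a * s = (b : G)⁻¹ * (a * s * (a : G)⁻¹) * a := by group
        _ = _ := by rw [e']; group
    · rintro ⟨x, hx, x1⟩
      obtain ⟨k, hk, e⟩ := h.trans hs h1 hss hx.1 x1 hx.2
      exact ⟨⟨k, hk⟩, Subtype.ext e⟩
  have := Nat.card_eq_of_bijective f hf
  rw [Nat.card_coe_set_eq, ncard_sharp] at this
  have h2 : 0 < 𝐨(h.Z) := Nat.card_pos
  omega

theorem three_le (h : ZT Q H t) : 3 ≤ 𝐨(H) := by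
  have h1 := h.odd
  have h2 : 𝐨(H) ≠ 1 := fun e => h.frob.ne_botR (card_eq_one.mp e)
  obtain ⟨m, hm⟩ := h1
  omega

theorem isPGroup_Z (h : ZT Q H t) : IsPGroup 2 h.Z := fun x =>
  ⟨1, Subtype.ext (by simpa [pow_two] using x.2.2)⟩

theorem exists_pow (h : ZT Q H t) : ∃ n, 2 ≤ n ∧ 𝐨(H) + 1 = 2 ^ n := by
  obtain ⟨n, hn⟩ := exists_card_eq_pow Nat.prime_two h.isPGroup_Z
  rw [h.card_Z] at hn
  refine ⟨n, ?_, hn⟩
  have := h.three_le
  rcases n with _ | _ | n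
  · omega
  · omega
  · omega

/-- The field attached to the involutions. -/
theorem exists_suz (h : ZT Q H t) (F : Type*) [Field F] [Fintype F]
    (hF : Fintype.card F = 𝐨(H) + 1) {S : Subgroup G} (hS : IsPGroup 2 S) (h1 : h.Z ≤ S)
    (h2 : S ≤ Q) (h3 : H ≤ 𝐍(S)) : ∃ (φ : G → F) (k : Fˣ →* G), Suz S H h.Z φ k := by
  obtain ⟨s, hs, s1, hss⟩ := h.exists_invol
  obtain ⟨φ, k, hk, -⟩ := exists_secField F (M := h.Z) (N := ⊥) (K := H)
    (by rw [relIndex_bot_left, h.card_Z, hF]) (le_sup_right.trans h.normZ) (norm_bot (G := G) ▸ le_top)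
    (fun x hx y hy => mem_bot.mpr
      (commutatorElement_eq_one_iff_commute.mpr (h.central hy.1 hy.2 hx.1)))
    (norm_bot (G := G) ▸ le_top) h.commH (e := s) ⟨hs, hss⟩ s1
    (fun x hx x1 => by
      obtain ⟨k, hk, e⟩ := h.trans hs s1 hss hx.1 x1 hx.2
      exact ⟨k, hk, by rw [e]; simp⟩)
    (fun k hk e => by
      by_contra k1
      refine s1 (semiReg_iff.mp h.frob.reg k hk k1 s hs ?_)
      have := inv_mul_eq_one.mp (mem_bot.mp e)
      exact mul_inv_eq_iff_eq_mul.mp this)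
  exact ⟨φ, k, hS, h3, h.frob.reg.mono h2 le_rfl,
    fun x => ⟨fun hx => ⟨h1 hx, hx.2⟩, fun hx => ⟨h2 hx.1, hx.2⟩⟩,
    fun x hx z hz => h.central hz.1 hz.2 (h2 hx), hk, by have := h.three_le; omega⟩

theorem invol_form (h : ZT Q H t) {u : G} (hu : u * u = 1) (hB : u ∉ Q ⊔ H) :
    ∃ y ∈ Q, ∃ k ∈ H, u = y⁻¹ * (k * k) * t * y := by
  obtain ⟨x, hx, y, hy, e⟩ := (h.bruhat u).resolve_left hB
  obtain ⟨y', hy', a, ha, rfl⟩ := h.mem_B.mp hx
  have e1 : y' * a * t * y * (y' * a * t * y) = 1 := by rw [← e, hu]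
  have e2 : t * (y * y' * a) * t = (y * y' * a)⁻¹ := by
    calc _ = (y * y' * a)⁻¹ * y * (y' * a * t * y * (y' * a * t * y)) * y⁻¹ := by group
      _ = _ := by rw [e1]; group
  have hw := Q.mul_mem hy hy'
  have hB : y * y' * a ∈ Q ⊔ H := mul_mem (mem_sup_left hw) (mem_sup_right ha)
  have e3 := h.eq_one hw (by simpa using H.mul_mem (h.inter _ hB (e2 ▸ inv_mem hB)) (H.inv_mem ha))
  obtain rfl : y' = y⁻¹ := eq_inv_of_mul_eq_one_right e3
  obtain ⟨k, hk, rfl⟩ := L.exists_sq_eq_of_odd h.odd ha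
  exact ⟨y, hy, k, hk, e⟩

theorem invol_mem (h : ZT Q H t) {u : G} (hu : u * u = 1) (hB : u ∈ Q ⊔ H) : u ∈ Q := by
  obtain ⟨y, hy, a, ha, rfl⟩ := h.mem_B.mp hB
  have e1 : a * a = (a * y * a⁻¹)⁻¹ * y⁻¹ * (y * a * (y * a)) := by group
  rw [hu, mul_one] at e1
  have e2 := h.eq_one (e1 ▸ Q.mul_mem (Q.inv_mem (H1.conj_mem_of_le_normalizer h.frob.norm ha hy))
    (Q.inv_mem hy)) (H.mul_mem ha ha)
  rw [L.eq_one_of_sq_of_odd h.odd ha e2, mul_one]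
  exact hy

theorem invol_conj (h : ZT Q H t) {u : G} (hu : u * u = 1) : ∃ g : G, g * u * g⁻¹ ∈ Q := by
  by_cases hB : u ∈ Q ⊔ H
  · exact ⟨1, by simpa using h.invol_mem hu hB⟩
  obtain ⟨y, hy, k, hk, rfl⟩ := h.invol_form hu hB
  obtain ⟨s, hs, s1, hss⟩ := h.exists_invol
  obtain ⟨v, hv⟩ := h.conj_t hs s1 hss
  refine ⟨v⁻¹ * k⁻¹ * y, ?_⟩
  have e5 : k * t = t * k⁻¹ := by rw [h.t_mul (H.inv_mem hk), inv_inv]
  have : v⁻¹ * k⁻¹ * y * (y⁻¹ * (k * k) * t * y) * (v⁻¹ * k⁻¹ * y)⁻¹ = s := by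
    calc _ = v⁻¹ * (k * t) * k * v := by group
      _ = _ := by rw [e5, ← hv]; group
  exact this ▸ hs

/-- The structure identity. -/
theorem exists_struct (h : ZT Q H t) :
    ∃ s ∈ Q, s ≠ 1 ∧ s * s = 1 ∧ ∃ ρ ∈ Q, t * s * t = ρ⁻¹ * t * ρ := by
  obtain ⟨s, hs, s1, hss⟩ := h.exists_invol
  obtain ⟨y, hy, k, hk, e⟩ := h.invol_form (u := t * s * t) (by
    rw [show t * s * t * (t * s * t) = t * (s * (t * t) * s) * t by group, h.tt, mul_one, hss,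
      mul_one, h.tt]) fun hB => s1 (h.eq_one_of_conj hs hB)
  refine ⟨k * s * k⁻¹, H1.conj_mem_of_le_normalizer h.frob.norm hk hs, by simpa using s1, ?_,
    k⁻¹ * y * k, H1.conj_mem_of_le_normalizer' h.frob.norm hk hy, ?_⟩
  · rw [show k * s * k⁻¹ * (k * s * k⁻¹) = k * (s * s) * k⁻¹ by group, hss]; group
  · have e4 : k⁻¹ * t = t * k := (h.t_mul hk).symm
    have e5 : k * t = t * k⁻¹ := by rw [h.t_mul (H.inv_mem hk), inv_inv]
    calc t * (k * s * k⁻¹) * t = (t * k) * s * (k⁻¹ * t) := by group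
      _ = (k⁻¹ * t) * s * (t * k) := by rw [e4]
      _ = k⁻¹ * (t * s * t) * k := by group
      _ = k⁻¹ * y⁻¹ * k * (k * t) * y * k := by rw [e]; group
      _ = _ := by rw [e5]; group

theorem struct_conj (h : ZT Q H t) {s ρ : G} (hs : s ∈ Q) (hss : s * s = 1) (hρ : ρ ∈ Q)
    (e : t * s * t = ρ⁻¹ * t * ρ) : ρ⁻¹ * (s * t) * ρ = (s * t) ^ 2 := by
  rw [← mul_assoc, (h.central hs hss (Q.inv_mem hρ)).eq, mul_assoc s, mul_assoc s, ← e, pow_two]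
  group

theorem struct_pow (h : ZT Q H t) {s ρ : G} (hs : s ∈ Q) (hss : s * s = 1) (hρ : ρ ∈ Q)
    (e : t * s * t = ρ⁻¹ * t * ρ) (n : ℕ) : ρ⁻¹ * (s * t) ^ n * ρ = (s * t) ^ (2 * n) := by
  have := conj_pow (i := n) (a := ρ⁻¹) (b := s * t)
  rw [inv_inv] at this
  rw [← this, h.struct_conj hs hss hρ e, pow_mul]

theorem struct_pow' (h : ZT Q H t) {s ρ : G} (hs : s ∈ Q) (hss : s * s = 1) (hρ : ρ ∈ Q)
    (e : t * s * t = ρ⁻¹ * t * ρ) (n : ℕ) :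
    (ρ * ρ)⁻¹ * (s * t) ^ n * (ρ * ρ) = (s * t) ^ (4 * n) := by
  calc _ = ρ⁻¹ * (ρ⁻¹ * (s * t) ^ n * ρ) * ρ := by group
    _ = _ := by
      rw [h.struct_pow hs hss hρ e, h.struct_pow hs hss hρ e]
      congr 1; ring

theorem struct_three (h : ZT Q H t) {s ρ : G} (hs : s ∈ Q) (hss : s * s = 1) (hρ : ρ ∈ Q)
    (e : t * s * t = ρ⁻¹ * t * ρ) (h2 : ρ * ρ = 1) : t * s * t = s * t * s := by
  have e2 := h.struct_pow' hs hss hρ e 1
  rw [h2, inv_one, one_mul, mul_one, mul_one, pow_one] at e2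
  have e3 : (s * t) ^ 3 = 1 := mul_left_cancel (a := s * t) (by rw [← pow_succ', ← e2, mul_one])
  have e4 : s * t * s * (t * s * t) = 1 := by
    rw [← e3]; simp only [pow_succ, pow_zero, one_mul, mul_assoc]
  have e5 : s * t * s * (s * t * s) = 1 := by
    rw [show s * t * s * (s * t * s) = s * (t * (s * s) * t) * s by group, hss, mul_one, h.tt,
      mul_one, hss]
  exact mul_left_cancel (e4.trans e5.symm)

theorem eq_one_of_pow (h : ZT Q H t) {s : G} (hs : s ∈ Q) (hss : s * s = 1) {n : ℕ}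
    (hQ : (s * t) ^ n ∈ Q) : (s * t) ^ n = 1 := by
  by_contra hn
  have e1 := L.invol_conj_pow hss h.tt n
  rw [← (h.central hs hss hQ).eq, mul_assoc, hss, mul_one] at e1
  have e2 : Commute ((s * t) ^ n) (s * t) := (Commute.refl _).pow_left n
  have := h.cent hQ hn e2
  exact h.t_notMem (mem_sup_left (by simpa [← mul_assoc, hss] using Q.mul_mem hs this))

theorem struct_five (h : ZT Q H t) {s ρ : G} (hs : s ∈ Q) (hss : s * s = 1)
    (hρ : ρ ∈ Q) (e : t * s * t = ρ⁻¹ * t * ρ) (h2 : ρ * ρ ≠ 1) (h4 : ρ * ρ * (ρ * ρ) = 1) :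
    ρ * ρ = s := by
  have hρ2 := Q.mul_mem hρ hρ
  have e1 := h.struct_pow' hs hss hρ e
  generalize ρ * ρ = w at *
  have e2 : (s * t) ^ 16 = s * t := by
    calc (s * t) ^ 16 = w⁻¹ * (w⁻¹ * (s * t) ^ 1 * w) * w := by rw [e1, e1]
      _ = (w * w)⁻¹ * (s * t) * (w * w) := by group
      _ = _ := by rw [h4]; group
  have e3 : (s * t) ^ 20 = (s * t) ^ 5 := by
    rw [show 20 = 16 + 4 from rfl, pow_add, e2, ← pow_succ']
  have e4 : (s * t) ^ 5 = 1 := by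
    refine h.eq_one_of_pow hs hss (h.cent hρ2 h2 ?_)
    have := e1 5
    rw [e3, mul_assoc, inv_mul_eq_iff_eq_mul] at this
    exact this.symm
  by_contra hn
  have e5 : s * w ≠ 1 := fun e' => hn (mul_left_cancel (e'.trans hss.symm))
  have e6 : Commute (s * w) (s * t) := by
    have a1 := e1 1
    have a2 := L.invol_conj_pow hss h.tt 1
    have a3 : (s * t) ^ (4 * 1) = ((s * t) ^ 1)⁻¹ := by
      rw [eq_inv_iff_mul_eq_one, ← pow_add, e4]
    rw [a3, ← a2, pow_one] at a1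
    have a4 : w⁻¹ = w := inv_eq_of_mul_eq_one_right h4
    have a5 := (h.central hs hss hρ2).eq
    rw [a4] at a1
    calc s * w * (s * t) = s * (w * (s * t) * w) * w * (w * w)⁻¹ := by group
      _ = (s * s) * (s * t) * (s * w) := by rw [a1, h4]; group
      _ = _ := by rw [hss, one_mul]
  have := h.cent (Q.mul_mem hs hρ2) e5 e6
  exact h.t_notMem (mem_sup_left (by simpa [← mul_assoc, hss] using Q.mul_mem hs this))

/-- If `Q'` is an invariant subgroup closed under the Bruhat relations, then `Q' H ∪ Q' H t Q'`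
is a subgroup. -/
theorem exists_sub (h : ZT Q H t) {Q' : Subgroup G} (h1 : Q' ≤ Q) (h2 : H ≤ 𝐍(Q'))
    (h3 : ∀ y ∈ Q', y ≠ 1 → ∃ x ∈ Q' ⊔ H, ∃ y' ∈ Q', t * y * t = x * t * y') :
    ∃ L : Subgroup G, (∀ g, g ∈ L ↔ g ∈ Q' ⊔ H ∨ ∃ x ∈ Q' ⊔ H, ∃ y ∈ Q', g = x * t * y) ∧
      𝐨(L) = 𝐨(Q') * 𝐨(H) * (𝐨(Q') + 1) := by
  let E : Set G := {g | g ∈ Q' ⊔ H ∨ ∃ x ∈ Q' ⊔ H, ∃ y ∈ Q', g = x * t * y}
  have mB : ∀ {x : G}, x ∈ Q' ⊔ H → ∃ k ∈ H, ∃ y ∈ Q', k * y = x := fun hx => by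
    rw [sup_comm] at hx; exact (H1.mem_sup_iff_of_le_normalizer h2).mp hx
  have mulB : ∀ g ∈ E, ∀ b ∈ Q' ⊔ H, g * b ∈ E := by
    rintro g (hg | ⟨x, hx, y, hy, rfl⟩) b hb
    · exact Or.inl (mul_mem hg hb)
    · obtain ⟨k, hk, z, hz, e⟩ := mB (mul_mem (mem_sup_left hy) hb)
      refine Or.inr ⟨x * k⁻¹, mul_mem hx (mem_sup_right (H.inv_mem hk)), z, hz, ?_⟩
      rw [mul_assoc (x * t), ← e, mul_assoc x k⁻¹, ← h.t_mul hk]; group
  have mulT : ∀ g ∈ E, g * t ∈ E := by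
    rintro g (hg | ⟨x, hx, y, hy, rfl⟩)
    · exact Or.inr ⟨g, hg, 1, Q'.one_mem, by simp⟩
    · by_cases y1 : y = 1
      · exact Or.inl (by rw [y1, mul_one, mul_assoc, h.tt, mul_one]; exact hx)
      obtain ⟨x', hx', y', hy', e⟩ := h3 y hy y1
      refine Or.inr ⟨x * x', mul_mem hx hx', y', hy', ?_⟩
      rw [mul_assoc x x', mul_assoc x, mul_assoc x, mul_assoc x, e]
  let L : Subgroup G :=
    { carrier := E
      one_mem' := Or.inl (one_mem _)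
      mul_mem' := by
        rintro a b ha (hb | ⟨x, hx, y, hy, rfl⟩)
        · exact mulB a ha b hb
        · rw [← mul_assoc, ← mul_assoc]
          exact mulB _ (mulT _ (mulB a ha x hx)) y (mem_sup_left hy)
      inv_mem' := by
        rintro a (ha | ⟨x, hx, y, hy, rfl⟩)
        · exact Or.inl (inv_mem ha)
        · rw [mul_inv_rev, mul_inv_rev, h.t_inv, ← mul_assoc]
          exact mulB _ (mulT _ (Or.inl (mem_sup_left (Q'.inv_mem hy)))) _ (inv_mem hx) }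
  have hle : Q' ⊔ H ≤ Q ⊔ H := sup_le_sup_right h1 H
  refine ⟨L, fun g => Iff.rfl, ?_⟩
  have := ncard_bruhat (B := Q' ⊔ H) (Q := Q') le_sup_left (fun ht => h.t_notMem (hle ht))
    (fun x hx y hy e => h.uniq (hle hx) (one_mem _) (h1 hy) (one_mem _) (by simpa using e))
  rw [sup_comm, H1.card_sup_of_inf_eq_bot h2 (by
    rw [eq_bot_iff, ← h.frob.reg.disj, inf_comm]; exact inf_le_inf_right H h1), sup_comm,
    mul_comm 𝐨(H)] at this
  exact this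

theorem dvd_of_three (h : ZT Q H t) {s : G} (hs : s ∈ Q) (s1 : s ≠ 1) (hss : s * s = 1)
    (e : t * s * t = s * t * s) : (𝐨(H) + 1) * (𝐨(H) + 2) ∣ 𝐨(Q) * (𝐨(Q) + 1) := by
  have nZ : H ≤ 𝐍(h.Z) := le_sup_right.trans h.normZ
  obtain ⟨L, -, hL⟩ := h.exists_sub h.Z_le nZ fun y hy y1 => by
    obtain ⟨k, hk, rfl⟩ := h.trans hs s1 hss hy.1 y1 hy.2
    have hz := H1.conj_mem_of_le_normalizer' nZ hk (⟨hs, hss⟩ : s ∈ h.Z)
    refine ⟨k⁻¹ * s * k * (k⁻¹ * k⁻¹), mul_mem (mem_sup_left hz)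
      (mem_sup_right (H.mul_mem (H.inv_mem hk) (H.inv_mem hk))), _, hz, ?_⟩
    have e4 : k⁻¹ * t = t * k := (h.t_mul hk).symm
    calc t * (k * s * k⁻¹) * t = (t * k) * s * (k⁻¹ * t) := by group
      _ = (k⁻¹ * t) * s * (t * k) := by rw [e4]
      _ = k⁻¹ * (t * s * t) * k := by group
      _ = k⁻¹ * s * (t * k) * (k⁻¹ * s * k) := by rw [e]; group
      _ = _ := by rw [← e4]; group
  have := L.card_subgroup_dvd_card
  rw [hL, h.card_G, h.card_Z] at this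
  refine Nat.dvd_of_mul_dvd_mul_left (Nat.card_pos (α := H)) ?_
  convert this using 1 <;> ring

/-- A normal subgroup containing an involution is the whole group. -/
theorem eq_top_of_invol (h : ZT Q H t) {N : Subgroup G} (hN : N.Normal) {s : G} (hs : s ∈ Q)
    (s1 : s ≠ 1) (hss : s * s = 1) (hsN : s ∈ N) : N = ⊤ := by
  obtain ⟨v, hv⟩ := h.conj_t hs s1 hss
  have ht : t ∈ N := hv ▸ hN.conj_mem s hsN v
  have hH : H ≤ N := fun a ha => by
    obtain ⟨k, hk, rfl⟩ := L.exists_sq_eq_of_odd h.odd ha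
    have : k * k = k * t * k⁻¹ * t := by
      rw [mul_assoc k t, h.t_mul (H.inv_mem hk), inv_inv, mul_assoc, mul_assoc, h.tt, mul_one]
    rw [this]
    exact N.mul_mem (hN.conj_mem t ht k) ht
  have hQ : Q ≤ N := by
    rw [← h.frob.comm_eq]
    exact (commutator_mono le_rfl hH).trans (commutator_le_right Q N)
  refine eq_top_iff.mpr fun g _ => ?_
  rcases h.bruhat g with hg | ⟨x, hx, y, hy, rfl⟩
  · exact sup_le hQ hH hg
  · exact N.mul_mem (N.mul_mem (sup_le hQ hH hx) ht) (hQ hy)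

theorem isSimpleGroup (h : ZT Q H t) (hQ : IsPGroup 2 Q) : IsSimpleGroup G := by
  have hnt : Nontrivial G := ⟨t, 1, fun e => h.t_notMem (e ▸ one_mem _)⟩
  refine ⟨fun N hN => ?_⟩
  by_cases hNQ : N ⊓ Q = ⊥
  swap
  · have : Fact (Nat.Prime 2) := ⟨Nat.prime_two⟩
    obtain ⟨z, hz⟩ := exists_prime_orderOf_dvd_card' (G := ↥(N ⊓ Q)) 2
      (prime_dvd_card_of_isPGroup Nat.prime_two (hQ.to_le inf_le_right) hNQ)
    refine Or.inr (h.eq_top_of_invol hN z.2.2 (fun e => ?_) ?_ z.2.1)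
    · rw [show z = 1 from Subtype.ext e, orderOf_one] at hz
      omega
    · have := pow_orderOf_eq_one z
      rw [hz, pow_two] at this
      exact congrArg Subtype.val this
  left
  have inv : ∀ s ∈ h.Z, s ≠ 1 → ∀ a ∈ N, s * a * s = a⁻¹ := fun s hs s1 =>
    L.inverts_of_fpf hs.2 (normal_iff_top_le.mp hN (mem_top s)) fun a ha hc =>
      mem_bot.mp (hNQ ▸ (⟨ha, h.cent hs.1 s1 hc⟩ : a ∈ N ⊓ Q))
  obtain ⟨s, hs, s1, hss⟩ := h.exists_invol
  obtain ⟨⟨k, hk⟩, k1⟩ := ne_bot_iff_exists_ne_one.mp h.frob.ne_botR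
  have hs' := H1.conj_mem_of_le_normalizer h.normZ (mem_sup_right hk) (⟨hs, hss⟩ : s ∈ h.Z)
  have s2 : k * s * k⁻¹ ≠ 1 := by simpa using s1
  have s3 : s * (k * s * k⁻¹) ≠ 1 := fun e => s1 (semiReg_iff.mp h.frob.reg k hk
    (fun e' => k1 (Subtype.ext e')) s hs
      (mul_inv_eq_iff_eq_mul.mp (mul_left_cancel (e.trans hss.symm))))
  refine eq_bot_iff.mpr fun a ha => hNQ ▸ ⟨ha, h.cent (Q.mul_mem hs hs'.1) s3 ?_⟩
  have e1 := inv s ⟨hs, hss⟩ s1 _ (N.inv_mem ha)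
  have e2 := inv _ hs' s2 a ha
  have e3 := hs'.2
  generalize k * s * k⁻¹ = w at *
  have e5 : w * a = a⁻¹ * w := by rw [← e2, mul_assoc, e3, mul_one]
  have e6 : s * a⁻¹ = a * s := by
    rw [inv_inv] at e1
    calc s * a⁻¹ = s * a⁻¹ * (s * s) := by rw [hss, mul_one]
      _ = a * s := by rw [← mul_assoc, e1]
  change s * w * a = a * (s * w)
  rw [mul_assoc, e5, ← mul_assoc, e6, mul_assoc]

end ZT

end Cfsg.Agent.P2
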