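/-
P2: exceptional characters of a Zassenhaus group of odd degree.
-/
import Cfsg.Agent.FT.CH1
import Cfsg.Agent.FT.CH2
import Cfsg.Agent.P2.Setup

set_option autoImplicit false
set_option linter.unusedSectionVars false

namespace Cfsg.Agent.P2

open Subgroup Cfsg Cfsg.Agent Cfsg.Agent.FT
open scoped commutatorElement ComplexConjugate

universe u

variable {G : Type u} [Group G] [Finite G]

theorem norm_ip_lt {β e : G → ℂ} (hβ : β ∈ CF (⊤ : Subgroup G)) (h1 : β 1 = 0) (h0 : β ≠ 0)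
    (he : e ∈ Irr (⊤ : Subgroup G)) : ‖ip ⊤ β e‖ ^ 2 < nsq ⊤ β := by
  have hon : ON ⊤ {e} := (on_Irr ⊤).mono (by simpa using he)
  have h2 := hon.nsq_eq_proj β
  rw [Finset.sum_singleton, Finset.sum_singleton] at h2
  rw [h2, lt_add_iff_pos_right]
  refine nsq_pos (sub_mem hβ (Submodule.smul_mem _ _ (irr_mem_CF he))) fun h3 => h0 ?_
  rw [sub_eq_zero] at h3
  have h4 := congrFun h3 1
  rw [h1, Pi.smul_apply, smul_eq_mul, eq_comm, mul_eq_zero] at h4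
  rw [h3, h4.resolve_right (irr_one_ne_zero he), zero_smul]

namespace ZT

variable {Q H : Subgroup G} {t : G}

theorem normal_B (h : ZT Q H t) : Q ⊲ (Q ⊔ H) := ⟨le_sup_left, h.normQ⟩

theorem exists_ind (h : ZT Q H t) {N : Subgroup G} {ψ : G → ℂ} (hψ : ψ ∈ irrKerD (Q ⊔ H) Q N) :
    ∃ θ ∈ Irr Q, ind (Q ⊔ H) Q θ = ψ ∧ dg ψ = 𝐨(H) * dg θ := by
  obtain ⟨θ, h1, -, rfl⟩ := h.frob.frobKer.exists_ind (irrKerD_mono _ le_rfl bot_le hψ)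
  rw [irrKer_bot] at h1
  exact ⟨θ, h1, rfl, by rw [(irr_isChar h1).dg_ind le_sup_left, h.relIndex_B]⟩

theorem mem_CFon (h : ZT Q H t) {N : Subgroup G} {ψ : G → ℂ} (hψ : ψ ∈ irrKerD (Q ⊔ H) Q N) :
    ψ ∈ CFon (Q ⊔ H) (Q : Set G) := by
  obtain ⟨θ, -, rfl, -⟩ := h.exists_ind hψ
  exact ind_mem_CFon_normal h.normQ θ

theorem ind_one_eq_zero {α : G → ℂ} (hα : α ∈ CFon (Q ⊔ H) (sharp Q)) :
    ind ⊤ (Q ⊔ H) α 1 = 0 := by
  rw [ind_one le_top, CFon_off hα fun h1 => h1.2 rfl, mul_zero]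

theorem bessel (h : ZT Q H t) {e : G → ℂ} (he : e ∈ Irr (⊤ : Subgroup G)) {T : Finset (G → ℂ)}
    (hT : T ⊆ irrKerD (Q ⊔ H) Q ⊥) (hne : T.Nonempty) (y : (G → ℂ) → ℕ)
    (hy : ∀ ψ ∈ T, ip (Q ⊔ H) e ψ = y ψ) :
    (∑ ψ ∈ T, y ψ ^ 2) * ∑ ψ ∈ T, dg ψ ^ 2 < (∑ ψ ∈ T, y ψ * dg ψ) ^ 2 + ∑ ψ ∈ T, dg ψ ^ 2 := by
  have hI : T ⊆ Irr (Q ⊔ H) := hT.trans (irrKerD_subset _ _ _)
  set D := ∑ ψ ∈ T, dg ψ ^ 2 with hD
  set P := ∑ ψ ∈ T, y ψ * dg ψ with hP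
  set Y := ∑ ψ ∈ T, y ψ ^ 2 with hY
  have D0 : 0 < D := Finset.sum_pos (fun ψ hψ => pow_pos (irr_dg_pos (hI hψ)) 2) hne
  let c : (G → ℂ) → ℤ := fun ψ => D * y ψ - P * dg ψ
  have hα : ∑ ψ ∈ T, (c ψ : ℂ) • ψ ∈ CFon (Q ⊔ H) (sharp Q) := by
    refine mem_CFon_sharp (Submodule.sum_mem _ fun ψ hψ =>
      Submodule.smul_mem _ _ (h.mem_CFon (hT hψ))) ?_
    rw [Finset.sum_apply, Finset.sum_congr rfl (g := fun ψ => (D : ℂ) * ((y ψ * dg ψ : ℕ) : ℂ) -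
      P * ((dg ψ ^ 2 : ℕ) : ℂ)), Finset.sum_sub_distrib, ← Finset.mul_sum, ← Finset.mul_sum,
      ← Nat.cast_sum, ← Nat.cast_sum, mul_comm, sub_self]
    intro ψ hψ
    simp only [Pi.smul_apply, smul_eq_mul, irr_one_eq (hI hψ), c]
    push_cast; ring
  set α := ∑ ψ ∈ T, (c ψ : ℂ) • ψ with hαe
  have n1 : nsq (Q ⊔ H) α = D * ((D : ℝ) * Y - P ^ 2) := by
    rw [hαe, ((on_Irr _).mono hI).nsq_sum_int_smul, Finset.sum_congr rfl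
      (g := fun ψ => (D : ℝ) ^ 2 * ((y ψ ^ 2 : ℕ) : ℝ) - 2 * D * P * ((y ψ * dg ψ : ℕ) : ℝ) +
        P ^ 2 * ((dg ψ ^ 2 : ℕ) : ℝ)), Finset.sum_add_distrib, Finset.sum_sub_distrib,
      ← Finset.mul_sum, ← Finset.mul_sum, ← Finset.mul_sum, ← Nat.cast_sum, ← Nat.cast_sum,
      ← Nat.cast_sum]
    · ring
    · intro ψ _
      simp only [c]; push_cast; ring
  have n2 : ip (Q ⊔ H) α e = (((D : ℝ) * Y - P ^ 2 : ℝ) : ℂ) := by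
    rw [hαe, ip_sum_left, Finset.sum_congr rfl
      (g := fun ψ => (D : ℂ) * ((y ψ ^ 2 : ℕ) : ℂ) - P * ((y ψ * dg ψ : ℕ) : ℂ)),
      Finset.sum_sub_distrib, ← Finset.mul_sum, ← Finset.mul_sum, ← Nat.cast_sum, ← Nat.cast_sum,
      ← hY, ← hP]
    · push_cast; ring
    · intro ψ hψ
      rw [ip_smul_left, ← conj_ip, hy ψ hψ]
      simp only [c, map_natCast]; push_cast; ring
  have key : (D : ℝ) * Y - P ^ 2 < D := by
    have D1 : (0 : ℝ) < D := by exact_mod_cast D0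
    by_cases h0 : ind ⊤ (Q ⊔ H) α = 0
    · have := nsq_eq_of_ip_eq (h.normedTI.ip_ind hα hα)
      rw [h0, n1, nsq_zero, eq_comm, mul_eq_zero] at this
      rw [this.resolve_left D1.ne']; exact D1
    · have := norm_ip_lt (ind_mem_CF _ _ _) (ind_one_eq_zero hα) h0 he
      rw [ip_ind_left le_top _ (irr_mem_CF he), n2, nsq_eq_of_ip_eq (h.normedTI.ip_ind hα hα),
        n1, Complex.norm_real, Real.norm_eq_abs, sq_abs] at this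
      by_contra h5
      nlinarith
  have : (Y : ℝ) * D < P ^ 2 + D := by linarith
  exact_mod_cast this

theorem ind_apply_sharp (h : ZT Q H t) {φ : G → ℂ} (hφ : φ ∈ CF (Q ⊔ H)) {x : G} (hx : x ∈ Q)
    (h1 : x ≠ 1) : ind ⊤ (Q ⊔ H) φ x = φ x := by
  rw [ind_of_mem _ _ (mem_top x), res_of_mem_CF hφ,
    ← sum_fs_subset (A := ((Q ⊔ H : Subgroup G) : Set G)) (fun _ _ => mem_top _) fun g _ hg =>
      CF_off hφ fun h2 => hg (by simpa using h.ti (g := g⁻¹) hx h1 (by simpa using h2)),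
    sum_fs_congr (g := fun _ => φ x) fun g hg => CF_conj' hφ hg x, sum_fs_const, nsmul_eq_mul,
    inv_mul_cancel_left₀ (card_ne_zero_C _)]

theorem norm_ind_le (h : ZT Q H t) {φ : G → ℂ} (hφ : IsLin (Q ⊔ H) φ) {x : G} (hx : x ∈ Q ⊔ H)
    (h1 : x ≠ 1) : ‖ind ⊤ (Q ⊔ H) φ x‖ ≤ 2 := by
  classical
  by_cases hQ : x ∈ Q
  · rw [h.ind_apply_sharp hφ.mem_CF hQ h1, hφ.norm_eq hx]; norm_num
  obtain ⟨b, hb, hk⟩ := h.frob.exists_conj_mem hx hQ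
  rw [← CF_conj (ind_mem_CF ⊤ _ φ) (mem_top b) x]
  have k1 : b * x * b⁻¹ ≠ 1 := by simpa using h1
  generalize b * x * b⁻¹ = k at hk k1
  let A : Set G := ((Q ⊔ H : Subgroup G) : Set G) ∪ (fun g => t * g) '' (Q ⊔ H : Subgroup G)
  have hA : ∀ g, g⁻¹ * k * g ∈ Q ⊔ H → g ∈ A := fun g hg => by
    rcases h.bruhat g⁻¹ with h2 | ⟨c, hc, y, hy, e⟩
    · exact Or.inl (by simpa using h2)
    have e' : g = y⁻¹ * t * c⁻¹ := by
      rw [← inv_inv g, e, mul_inv_rev, mul_inv_rev, h.t_inv, mul_assoc]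
    have h3 : t * (y * k * y⁻¹) * t ∈ Q ⊔ H := by
      have : t * (y * k * y⁻¹) * t = c⁻¹ * (g⁻¹ * k * g) * c := by rw [e, e']; group
      rw [this]; exact mul_mem (mul_mem (inv_mem hc) hg) hc
    have h4 := h.inter _ (mul_mem (mul_mem (mem_sup_left hy) (mem_sup_right hk))
      (inv_mem (mem_sup_left hy))) h3
    have h5 : y * (k * y⁻¹ * k⁻¹) = 1 := h.eq_one
      (mul_mem hy (H1.conj_mem_of_le_normalizer h.frob.norm hk (inv_mem hy)))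
      (by rw [show y * (k * y⁻¹ * k⁻¹) = y * k * y⁻¹ * k⁻¹ by group]; exact mul_mem h4 (inv_mem hk))
    have h6 : y = 1 := mem_bot.mp (h.frob.reg k hk k1 ▸ (⟨hy, mem_cent1_iff_commute.mpr (by
      change k * y = y * k
      calc k * y = y * (k * y⁻¹ * k⁻¹) * k * y * y⁻¹ * y := by rw [h5]; group
        _ = y * k := by group)⟩ : y ∈ Q ⊓ 𝐂[k]))
    exact Or.inr ⟨c⁻¹, inv_mem hc, by rw [e', h6]; simp⟩
  rw [ind_of_mem _ _ (mem_top k), res_of_mem_CF hφ.mem_CF,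
    ← sum_fs_subset (A := A) (fun _ _ => mem_top _) fun g _ hg =>
      CF_off hφ.mem_CF fun h2 => hg (hA g h2), norm_mul, norm_inv, Complex.norm_natCast,
    inv_mul_le_iff₀ (card_pos_R _)]
  refine (norm_sum_le _ _).trans ((Finset.sum_le_card_nsmul _ _ 1 fun g _ => ?_).trans ?_)
  · simpa [hφ.dg] using hφ.isChar.norm_le (g⁻¹ * k * g)
  · rw [card_fs, nsmul_one]
    have := (Set.ncard_union_le _ _).trans (Nat.add_le_add_left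
      (Set.ncard_image_le (f := fun g => t * g) (s := ((Q ⊔ H : Subgroup G) : Set G)))
      ((Q ⊔ H : Subgroup G) : Set G).ncard)
    have e : ((Q ⊔ H : Subgroup G) : Set G).ncard = 𝐨((Q ⊔ H : Subgroup G)) := rfl
    rw [e] at this
    exact_mod_cast this.trans (by omega)

theorem nsq_ind_le (h : ZT Q H t) {φ : G → ℂ} (hφ : IsLin (Q ⊔ H) φ) :
    nsq ⊤ (ind ⊤ (Q ⊔ H) φ) ≤ 3 := by
  rw [nsq_eq_re, ip_ind_left le_top _ (ind_mem_CF _ _ _)]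
  refine (Complex.re_le_norm _).trans ?_
  rw [ip_def, norm_mul, norm_inv, Complex.norm_natCast, inv_mul_le_iff₀ (card_pos_R _)]
  refine (norm_sum_le _ _).trans ?_
  rw [sum_fs_sharp]
  have h1 : ∑ x ∈ fs (sharp (Q ⊔ H)), ‖φ x * conj (ind ⊤ (Q ⊔ H) φ x)‖ ≤
      𝐨((Q ⊔ H : Subgroup G)) * 2 := by
    refine (Finset.sum_le_card_nsmul _ _ 2 fun x hx => ?_).trans ?_
    · rw [mem_fs] at hx
      rw [norm_mul, hφ.norm_eq hx.1, one_mul, Complex.norm_conj]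
      exact h.norm_ind_le hφ hx.1 hx.2
    · rw [nsmul_eq_mul, ← card_fs_coe]
      gcongr
      exact fs_subset fun x hx => hx.1
  have h2 : ‖φ 1 * conj (ind ⊤ (Q ⊔ H) φ 1)‖ ≤ 𝐨((Q ⊔ H : Subgroup G)) := by
    rw [ind_one le_top, hφ.2.1, one_mul, mul_one, Complex.norm_conj, Complex.norm_natCast,
      relIndex_top_right, h.index_B, h.card_B]
    have := h.three_le
    have : 0 < 𝐨(Q) := Nat.card_pos
    exact_mod_cast (by nlinarith : 𝐨(Q) + 1 ≤ 𝐨(Q) * 𝐨(H))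
  linarith

theorem card_X (h : ZT Q H t) {N : Subgroup G} (hN : ⁅Q, Q⁆ ≤ N) (hNQ : N ≤ Q)
    (nN : Q ⊔ H ≤ 𝐍(N)) : (∀ χ ∈ irrKerD (Q ⊔ H) Q N, dg χ = 𝐨(H)) ∧
      𝐨(H) * (irrKerD (Q ⊔ H) Q N).card + 1 = N.relIndex Q := by
  have h1 : ∀ χ ∈ irrKerD (Q ⊔ H) Q N, dg χ = 𝐨(H) := fun χ hχ => by
    obtain ⟨θ, hθ, rfl, e⟩ := h.exists_ind hχ
    rw [e, (isLin_of_der_le_cfKer hθ (hN.trans ((le_cfKer_ind_irr_iff le_sup_left nN hθ).mp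
      (mem_irrKerD.mp hχ).2.1))).dg, mul_one]
  refine ⟨h1, ?_⟩
  have h2 := sum_irrKerD_dg_sq h.normal_B nN hNQ
  rw [Finset.sum_congr rfl (g := fun _ => 𝐨(H) ^ 2) fun χ hχ => by rw [h1 χ hχ],
    Finset.sum_const, smul_eq_mul, h.relIndex_B] at h2
  exact Nat.eq_of_mul_eq_mul_left (Nat.card_pos (α := H)) (by rw [← h2]; ring)

theorem ip_lin (_h : ZT Q H t) {N : Subgroup G} {χ l : G → ℂ} (hχ : χ ∈ irrKerD (Q ⊔ H) Q N)
    (hl : l ∈ irrKer (Q ⊔ H) Q) : ip (Q ⊔ H) χ l = 0 :=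
  ip_irr_of_ne (mem_irrKerD.mp hχ).1 (mem_irrKer.mp hl).1 fun e =>
    (mem_irrKerD.mp hχ).2.2 (e ▸ (mem_irrKer.mp hl).2)

theorem isLin (h : ZT Q H t) {l : G → ℂ} (hl : l ∈ irrKer (Q ⊔ H) Q) : IsLin (Q ⊔ H) l :=
  isLin_of_mem_irrKer (commutator_le.mpr fun x hx y hy => by
    obtain ⟨a, ha, k, hk, rfl⟩ := h.mem_B.mp hx
    obtain ⟨b, hb, m, hm, rfl⟩ := h.mem_B.mp hy
    have hc : k * m = m * k := congrArg Subtype.val (h.commH.is_comm.comm ⟨k, hk⟩ ⟨m, hm⟩)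
    have c := fun {g x : G} (hg : g ∈ H) (hx : x ∈ Q) =>
      H1.conj_mem_of_le_normalizer h.frob.norm hg hx
    have : ⁅a * k, b * m⁆ = a * (k * b * k⁻¹) * (m * a⁻¹ * m⁻¹) * b⁻¹ := by
      rw [commutatorElement_def]
      calc _ = a * (k * b * k⁻¹) * (k * m) * k⁻¹ * a⁻¹ * m⁻¹ * b⁻¹ := by group
        _ = _ := by rw [hc]; group
    rw [this]
    exact mul_mem (mul_mem (mul_mem ha (c hk hb)) (c hm (inv_mem ha))) (inv_mem hb)) hl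

/-- The exceptional character attached to `χ₁`. -/
theorem exists_exc (h : ZT Q H t) {N : Subgroup G} (hN : ⁅Q, Q⁆ ≤ N) (hNQ : N ≤ Q)
    (nN : Q ⊔ H ≤ 𝐍(N)) (hX : (𝐨(H) + 1) ^ 2 ≤ N.relIndex Q) {χ₁ : G → ℂ}
    (hχ₁ : χ₁ ∈ irrKerD (Q ⊔ H) Q N) : ∃ e ∈ Irr (⊤ : Subgroup G), ip (Q ⊔ H) e χ₁ = 1 ∧
      (∀ χ ∈ irrKerD (Q ⊔ H) Q N, χ ≠ χ₁ → ip (Q ⊔ H) e χ = 0) ∧
      (∀ l ∈ irrKer (Q ⊔ H) Q, ip (Q ⊔ H) e l = 0) ∧
      ((∀ χ ∈ irrKerD (Q ⊔ H) Q N, star χ = χ) → star e = e) := by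
  obtain ⟨hd, hc⟩ := h.card_X hN hNQ nN
  set X := irrKerD (Q ⊔ H) Q N with hXe
  set B := Q ⊔ H with hB
  have d3 := h.three_le
  have cX : 𝐨(H) + 2 ≤ X.card := by
    by_contra h1
    have : X.card ≤ 𝐨(H) + 1 := by omega
    nlinarith
  have hI : X ⊆ Irr B := irrKerD_subset _ _ _
  have h1X : ∀ χ ∈ X, χ 1 = 𝐨(H) := fun χ hχ => by rw [irr_one_eq (hI hχ), hd χ hχ]
  have hon : ∀ φ ∈ Zs0 X, φ ∈ CFon B (sharp Q) := fun φ hφ =>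
    Zs0_le_CFon (fun χ hχ => CFon_mono _ (fun x hx => by
      by_cases h1 : x = 1
      exacts [Or.inl h1, Or.inr ⟨hx, h1⟩]) (h.mem_CFon hχ)) hφ
  have hsub : ∀ χ ∈ X, ∀ ψ ∈ X, χ - ψ ∈ CFon B (sharp Q) := fun χ hχ ψ hψ =>
    hon _ (sub_mem_Zs0 (mem_Zs_of_mem hχ) (mem_Zs_of_mem hψ) (by rw [h1X χ hχ, h1X ψ hψ]))
  obtain ⟨ε, hε, μ, hμ, hinj, hτ⟩ := vchar_isometry_base (Y := ⊤) (τ := ind ⊤ B) hI (by omega)
    (fun χ hχ ψ hψ => by rw [h1X χ hχ, h1X ψ hψ])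
    (fun φ hφ ψ hψ => h.normedTI.ip_ind (hon φ hφ) (hon ψ hψ))
    fun φ hφ => ⟨vchar_ind le_top (Zs_le_VChar (fun χ hχ => irr_mem_VChar (hI hχ)) hφ.1),
      ind_one_eq_zero (hon φ hφ)⟩
  have ε0 : (ε : ℂ) ≠ 0 := by rcases hε with rfl | rfl <;> simp
  have εε : (ε : ℂ) * ε = 1 := by rcases hε with rfl | rfl <;> simp
  have hμon : ON ⊤ (X.image μ) := (on_Irr ⊤).mono fun a ha => by
    obtain ⟨χ, hχ, rfl⟩ := Finset.mem_image.mp ha; exact hμ χ hχ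
  have key : ∀ χ ∈ X, ∀ ψ ∈ X, ∀ φ ∈ CF (⊤ : Subgroup G),
      ip B (χ - ψ) φ = ε * (ip ⊤ (μ χ) φ - ip ⊤ (μ ψ) φ) := fun χ hχ ψ hψ φ hφ => by
    rw [← ip_ind_left le_top _ hφ, hτ χ hχ ψ hψ, ip_smul_left, ip_sub_left]
  have hμμ : ∀ χ ∈ X, ∀ ψ ∈ X, χ ≠ ψ → ip ⊤ (μ χ) (μ ψ) = 0 := fun χ hχ ψ hψ hne =>
    ip_irr_of_ne (hμ χ hχ) (hμ ψ hψ) fun e => hne (hinj hχ hψ e)
  -- linear characters
  have hlin : ∀ l ∈ irrKer B Q, ip B (μ χ₁) l = 0 := fun l hl => by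
    have hl' := h.isLin hl
    obtain ⟨m, hm⟩ := (irr_isChar (hμ χ₁ hχ₁)).ip_nat (hl'.isChar.ind le_top)
    have h1 : ∀ χ ∈ X, ip ⊤ (μ χ) (ind ⊤ B l) = m := fun χ hχ => by
      have := key χ hχ χ₁ hχ₁ _ (ind_mem_CF ⊤ B l)
      rw [ip_congr_of_supp (A := sharp Q) (ψ' := l) (fun x _ hx => CFon_off (hsub χ hχ χ₁ hχ₁) hx)
        (fun x hx => h.ind_apply_sharp hl'.mem_CF hx.1 hx.2), ip_sub_left, h.ip_lin hχ hl,
        h.ip_lin hχ₁ hl, sub_zero, eq_comm, mul_eq_zero, sub_eq_zero] at this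
      rw [this.resolve_left ε0, hm]
    have h2 := (hμon.bessel (ind ⊤ B l)).trans (h.nsq_ind_le hl')
    rw [Finset.sum_image hinj, Finset.sum_congr rfl (g := fun _ => (m : ℝ) ^ 2) fun χ hχ => by
      rw [← conj_ip, h1 χ hχ]; simp, Finset.sum_const, nsmul_eq_mul] at h2
    have h3 : X.card * m ^ 2 ≤ 3 := by exact_mod_cast h2
    have : m = 0 := by
      by_contra h4
      have : 1 ≤ m ^ 2 := Nat.one_le_pow _ _ (Nat.pos_of_ne_zero h4)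
      nlinarith
    rw [← ip_ind_right le_top (irr_mem_CF (hμ χ₁ hχ₁)), hm, this, Nat.cast_zero]
  -- the function `χ₁ - 1_Q^B`
  set β := χ₁ - ind B Q (cf1 Q) with hβe
  have hβ : β ∈ CFon B (sharp Q) := mem_CFon_sharp
    (sub_mem (h.mem_CFon hχ₁) (ind_mem_CFon_normal h.normQ _)) (by
      rw [hβe, Pi.sub_apply, h1X χ₁ hχ₁, ind_one le_sup_left, h.relIndex_B,
        cf1_of_mem Q.one_mem, mul_one, sub_self])
  have hβv : ind ⊤ B β ∈ VChar (⊤ : Subgroup G) := vchar_ind le_top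
    (sub_mem (irr_mem_VChar (hI hχ₁)) (vchar_ind le_sup_left (cf1_mem_VChar Q)))
  have hπ : ∀ φ, (∀ l ∈ irrKer B Q, ip B φ l = 0) → ip B φ (ind B Q (cf1 Q)) = 0 := fun φ hφ => by
    rw [CH1.ind_cf1_eq_sum h.normal_B, ip_sum_right]
    exact Finset.sum_eq_zero fun l hl => by rw [ip_smul_right, hφ l hl, mul_zero]
  have hπX : ∀ χ ∈ X, ip B χ (ind B Q (cf1 Q)) = 0 := fun χ hχ => hπ χ fun l hl => h.ip_lin hχ hl
  have nβ : nsq ⊤ (ind ⊤ B β) = 𝐨(H) + 1 := by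
    rw [nsq_eq_of_ip_eq (h.normedTI.ip_ind hβ hβ), hβe, nsq_sub_of_orth (hπX χ₁ hχ₁),
      nsq_irr (hI hχ₁), ind_cf1_normal h.normal_B, nsq_nat_smul, h.relIndex_B, add_comm]
    have := ip_eq_ip_of_supp (L := B) (H := Q) le_sup_left (φ := cf1 Q)
      (fun x _ hx => cf1_of_notMem hx) (cf1 Q)
    rw [ip_irr_self (cf1_mem_Irr Q), h.relIndex_B, ip_self] at this
    have h5 : (𝐨(H) : ℝ) * nsq B (cf1 Q) = 1 := by exact_mod_cast this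
    rw [sq, mul_assoc, h5, mul_one]
  obtain ⟨b, hb⟩ := vchar_ip_int (irr_mem_VChar (hμ χ₁ hχ₁)) hβv
  have hbX : ∀ χ ∈ X, χ ≠ χ₁ → ip ⊤ (μ χ) (ind ⊤ B β) = (b - ε : ℤ) := fun χ hχ hne => by
    have := key χ₁ hχ₁ χ hχ _ (ind_mem_CF ⊤ B β)
    rw [← ip_ind_left le_top _ (ind_mem_CF ⊤ B β), h.normedTI.ip_ind (hsub _ hχ₁ _ hχ) hβ,
      hβe, ip_sub_left, ip_sub_right, ip_sub_right, hπX _ hχ₁, hπX _ hχ, ip_irr_self (hI hχ₁),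
      ip_irr_of_ne (hI hχ) (hI hχ₁) hne, ← hβe, hb] at this
    push_cast
    linear_combination (ε : ℂ) * this + (b - ip ⊤ (μ χ) (ind ⊤ B β)) * εε
  have h1μ : cf1 ⊤ ∉ X.image μ := fun h1 => by
    obtain ⟨χ, hχ, e⟩ := Finset.mem_image.mp h1
    obtain ⟨ψ, hψ, hne⟩ := Finset.exists_mem_ne (s := X) (by omega) χ
    have := key χ hχ ψ hψ _ (irr_mem_CF (hμ χ hχ))
    rw [ip_irr_self (hμ χ hχ), hμμ ψ hψ χ hχ hne, e, ← ip_res_right, res_cf1 le_top, ip_sub_left,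
      h.ip_lin hχ (cf1_mem_irrKer le_sup_left), h.ip_lin hψ (cf1_mem_irrKer le_sup_left)] at this
    exact ε0 (by simpa using this.symm)
  have hbε : b = ε := by
    have h2 := ((on_Irr ⊤).mono (F := insert (cf1 ⊤) (X.image μ)) fun a ha => by
      rcases Finset.mem_insert.mp ha with rfl | ha
      · exact cf1_mem_Irr ⊤
      · obtain ⟨χ, hχ, rfl⟩ := Finset.mem_image.mp ha; exact hμ χ hχ).bessel (ind ⊤ B β)
    have h3 : ip ⊤ (ind ⊤ B β) (cf1 ⊤) = -1 := by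
      rw [ip_ind_left le_top _ (cf1_mem_CF ⊤), ← ip_res_right, res_cf1 le_top, hβe, ip_sub_left,
        h.ip_lin hχ₁ (cf1_mem_irrKer le_sup_left), ip_ind_left le_sup_left _ (cf1_mem_CF B),
        ← ip_res_right, res_cf1 le_sup_left, ip_irr_self (cf1_mem_Irr Q), zero_sub]
    rw [Finset.sum_insert h1μ, Finset.sum_image hinj, nβ, h3, ← Finset.add_sum_erase _ _ hχ₁,
      Finset.sum_congr rfl (g := fun _ => ((b - ε : ℤ) : ℝ) ^ 2) fun χ hχ => by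
        rw [← conj_ip, hbX χ (Finset.mem_of_mem_erase hχ) (Finset.ne_of_mem_erase hχ),
          Complex.norm_conj, Complex.norm_intCast, sq_abs],
      Finset.sum_const, nsmul_eq_mul, Finset.card_erase_of_mem hχ₁] at h2
    by_contra h4
    have h5 : (1 : ℝ) ≤ ((b - ε : ℤ) : ℝ) ^ 2 := by
      exact_mod_cast (one_le_sq_iff_one_le_abs _).mpr (Int.one_le_abs (sub_ne_zero.mpr h4))
    have h6 : (𝐨(H) : ℝ) + 1 ≤ (X.card - 1 : ℕ) := by exact_mod_cast (by omega)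
    have h7 : ‖(-1 : ℂ)‖ ^ 2 = 1 := by simp
    nlinarith [sq_nonneg ‖ip ⊤ (ind ⊤ B β) (μ χ₁)‖]
  have h11 : ip B (μ χ₁) χ₁ = ε := by
    rw [ip_ind_right le_top (irr_mem_CF (hμ χ₁ hχ₁)), hβe, ip_sub_right, hπ _ hlin, sub_zero,
      hbε] at hb
    exact hb
  obtain rfl : ε = 1 := by
    obtain ⟨m, hm⟩ := CH1.ip_res_nat le_top (irr_isChar (hμ χ₁ hχ₁)) (irr_isChar (hI hχ₁))
    have : ε = m := by exact_mod_cast h11.symm.trans hm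
    omega
  refine ⟨μ χ₁, hμ χ₁ hχ₁, by simpa using h11, fun χ hχ hne => ?_, hlin, fun hr => ?_⟩
  · have := key χ₁ hχ₁ χ hχ _ (irr_mem_CF (hμ χ₁ hχ₁))
    rw [ip_irr_self (hμ χ₁ hχ₁), hμμ χ hχ χ₁ hχ₁ hne, ip_sub_left, ← conj_ip, h11] at this
    exact ip_eq_zero_symm (by simpa using this)
  · obtain ⟨ψ, hψ, hne⟩ := Finset.exists_mem_ne (s := X) (by omega) χ₁
    have h2 := hτ χ₁ hχ₁ ψ hψ
    have h3 : star (μ χ₁) - star (μ ψ) = μ χ₁ - μ ψ := by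
      rw [Int.cast_one, one_smul] at h2
      rw [← star_sub, ← h2, ← ind_star, star_sub, hr χ₁ hχ₁, hr ψ hψ]
    refine irr_eq_of_ip_ne_zero (star_mem_Irr (hμ χ₁ hχ₁)) (hμ χ₁ hχ₁) fun h4 => ?_
    have h5 := congrArg (ip ⊤ · (μ χ₁)) h3
    simp only [ip_sub_left] at h5
    rw [h4, ip_irr_self (hμ χ₁ hχ₁), hμμ ψ hψ χ₁ hχ₁ hne,
      ip_irr (star_mem_Irr (hμ ψ hψ)) (hμ χ₁ hχ₁)] at h5
    split_ifs at h5 <;> norm_num at h5

end ZT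

end Cfsg.Agent.P2
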