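/-
P2: the structure of `Q` in a Zassenhaus group of odd degree.
-/
import Cfsg.Agent.P2.Chars1
import Cfsg.Agent.H5.FrobSchur

set_option autoImplicit false
set_option linter.unusedSectionVars false

namespace Cfsg.Agent.P2

open Subgroup Cfsg Cfsg.Agent Cfsg.Agent.FT
open scoped commutatorElement ComplexConjugate TensorProduct

universe u

variable {G : Type u} [Group G] [Finite G]

theorem le_of_le_comm_sup {N K Q : Subgroup G} (hQ : Group.IsNilpotent Q) (hN : N ⊲ Q)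
    (hK : K ⊲ Q) (h : N ≤ ⁅N, Q⁆ ⊔ K) : N ≤ K := by
  have := H1.normal_subgroupOf_of_le hK.2
  rw [← H1.bar_eq_bot_iff (N := K) hN.1]
  by_contra hne
  have := H1.isNilpotent_bar (N := K) le_rfl hQ
  refine (L.commutator_lt_of_isNilpotent (H1.bar_mono hN.1) (H1.bar_le_normalizer hN.2) hne).not_ge ?_
  rw [← H1.bar_commutator hN.1 le_rfl,
    ← H1.bar_sup_self hK.1 ((H1.commutator_le_of_le_normalizer hN.2).trans hN.1)]
  exact H1.bar_mono h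

theorem fsInd_ne_zero [Fintype G] {χ : G → ℂ} (h : IsCharacter G χ)
    (ha : classInner (χ * χ) 1 = 1) : H5.fsInd χ ≠ 0 := by
  classical
  obtain ⟨n, ρ, rfl⟩ := h
  set τ := (TensorProduct.comm ℂ (Fin n → ℂ) (Fin n → ℂ)).toLinearMap with hτ
  have hτ2 : τ * τ = 1 := by ext; simp [hτ]
  have hc : ∀ g : G, τ * ρ.tprod ρ g = ρ.tprod ρ g * τ := fun g => by ext; simp [hτ]
  let s : ℤˣ →* Module.End ℂ ((Fin n → ℂ) ⊗[ℂ] (Fin n → ℂ)) :=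
    { toFun := fun u => if u = 1 then 1 else τ
      map_one' := by simp
      map_mul' := fun u v => by
        rcases Int.units_eq_one_or u with rfl | rfl <;>
          rcases Int.units_eq_one_or v with rfl | rfl <;> simp [hτ2] }
  let σ : Representation ℂ (ℤˣ × G) ((Fin n → ℂ) ⊗[ℂ] (Fin n → ℂ)) :=
    MonoidHom.noncommCoprod s (ρ.tprod ρ) fun u g => by
      rcases Int.units_eq_one_or u with rfl | rfl
      · simp
      · exact hc g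
  obtain ⟨b, hb⟩ := (H6.isCharacter_char σ).exists_nat_classInner H6.isCharacter_one
  have h1 : ∀ g : G, σ.character (1, g) = ρ.character g * ρ.character g := fun g => by
    rw [← Pi.mul_apply, ← Representation.char_tensor]
    simp [σ, Representation.character]
  have h2 : ∀ g : G, σ.character (-1, g) = ρ.character (g ^ 2) := fun g => by
    rw [Representation.character, Representation.character, pow_two, map_mul, ← H5.trace_comm_map]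
    rfl
  simp only [classInner, Pi.one_apply, map_one, mul_one, Pi.mul_apply] at ha hb
  rw [Fintype.sum_prod_type, UnitsInt.univ, Finset.sum_pair (by decide), Nat.card_prod,
    Nat.card_eq_fintype_card (α := ℤˣ), Fintype.card_units_int] at hb
  simp only [h1, h2] at hb
  have h3 := H6.card_ne_zero_complex G
  intro h0
  have : H5.fsInd ρ.character = 2 * b - 1 := by
    push_cast at hb
    rw [H5.fsInd, ← ha, ← hb]
    field_simp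
    ring
  rw [h0, eq_comm, sub_eq_zero] at this
  have : 2 * b = 1 := by exact_mod_cast this
  omega

theorem sum_sq_ne_zero {e : G → ℂ} (he : e ∈ Irr (⊤ : Subgroup G)) (hr : star e = e) :
    ∑ x ∈ fs ((⊤ : Subgroup G) : Set G), e (x * x) ≠ 0 := by
  have := Fintype.ofFinite G
  have h1 := fsInd_ne_zero (isChar_top_iff.mp (irr_isChar he)) (by
    have := ip_irr_self he
    rw [ip_def, sum_fs_top, card_top] at this
    rw [← this, classInner]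
    congr 1
    exact Finset.sum_congr rfl fun x _ => by rw [← star_apply' e, hr]; simp)
  rw [sum_fs_top]
  intro h0
  exact h1 (by simp only [H5.fsInd, pow_two, h0, mul_zero])

namespace ZT

variable {Q H : Subgroup G} {t : G}

theorem relIndex_mod (h : ZT Q H t) {N M : Subgroup G} (h1 : N ≤ M) (h2 : M ≤ Q)
    (nN : H ≤ 𝐍(N)) (nM : H ≤ 𝐍(M)) : ∃ T, 𝐨(H) * T + 1 = N.relIndex M := by
  have a1 := (Nat.modEq_iff_dvd' (Nat.card_pos (α := N))).mpr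
    ((h.frob.reg.mono (h1.trans h2) le_rfl).card_dvd nN)
  have a2 := (Nat.modEq_iff_dvd' (Nat.card_pos (α := M))).mpr
    ((h.frob.reg.mono h2 le_rfl).card_dvd nM)
  have a3 := a1.mul_right (N.relIndex M)
  rw [Nat.succ_eq_add_one, zero_add, one_mul, H1.card_mul_relIndex h1] at a3
  have a4 : 0 < N.relIndex M := Nat.pos_of_ne_zero (CH1.relIndex_ne_zero' _ _)
  obtain ⟨T, hT⟩ := (Nat.modEq_iff_dvd' a4).mp (a2.trans a3.symm)
  exact ⟨T, by omega⟩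

theorem le_relIndex (h : ZT Q H t) {N M : Subgroup G} (h1 : N < M) (h2 : M ≤ Q)
    (nN : H ≤ 𝐍(N)) (nM : H ≤ 𝐍(M)) : 𝐨(H) + 1 ≤ N.relIndex M := by
  obtain ⟨T, hT⟩ := h.relIndex_mod h1.le h2 nN nM
  rcases T with _ | T
  · exact absurd (relIndex_eq_one.mp hT.symm) h1.not_ge
  · rw [← hT]; nlinarith [Nat.zero_le (𝐨(H) * T)]

theorem sq_le_relIndex (h : ZT Q H t) {N M : Subgroup G} (h1 : N < M) (h2 : M < Q)
    (nN : H ≤ 𝐍(N)) (nM : H ≤ 𝐍(M)) : (𝐨(H) + 1) ^ 2 ≤ N.relIndex Q := by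
  rw [← relIndex_mul_relIndex N M Q h1.le h2.le, sq]
  exact Nat.mul_le_mul (h.le_relIndex h1 h2.le nN nM) (h.le_relIndex h2 le_rfl nM h.frob.norm)

theorem bound_aux (h : ZT Q H t) {e χ₁ ψ : G → ℂ} {N : Subgroup G} (he : e ∈ Irr (⊤ : Subgroup G))
    (hNQ : N ≤ Q) (nN : Q ⊔ H ≤ 𝐍(N)) (hχ₁ : χ₁ ∈ irrKerD (Q ⊔ H) Q N) (hd : dg χ₁ = 𝐨(H))
    (h1 : ip (Q ⊔ H) e χ₁ = 1) (h0 : ∀ χ ∈ irrKerD (Q ⊔ H) Q N, χ ≠ χ₁ → ip (Q ⊔ H) e χ = 0)
    (hψ : ψ ∈ irrKerD (Q ⊔ H) Q ⊥) (hne : ψ ≠ χ₁) (hy : ip (Q ⊔ H) e ψ ≠ 0) :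
    ∃ θ ∈ Irr Q, ind (Q ⊔ H) Q θ = ψ ∧ dg ψ = 𝐨(H) * dg θ ∧ ∃ y T : ℕ, 0 < y ∧
      ip (Q ⊔ H) e ψ = y ∧ 𝐨(H) * T + 1 = N.relIndex Q ∧ T * y ≤ 2 * dg θ := by
  classical
  obtain ⟨θ, hθ, e1, e2⟩ := h.exists_ind hψ
  obtain ⟨y, hy'⟩ := CH1.ip_res_nat le_top (irr_isChar he) (irr_isChar (mem_irrKerD.mp hψ).1)
  obtain ⟨T, hT⟩ := h.relIndex_mod hNQ le_rfl (le_sup_right.trans nN) h.frob.norm
  have y0 : 0 < y := Nat.pos_of_ne_zero fun h2 => hy (by rw [hy', h2, Nat.cast_zero])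
  refine ⟨θ, hθ, e1, e2, y, T, y0, hy', hT, ?_⟩
  have hn : ψ ∉ irrKerD (Q ⊔ H) Q N := fun h2 => hy (h0 ψ h2 hne)
  have hb := h.bessel he (T := insert ψ (irrKerD (Q ⊔ H) Q N))
    (Finset.insert_subset hψ (irrKerD_mono _ le_rfl bot_le)) (Finset.insert_nonempty _ _)
    (fun χ => if χ = ψ then y else if χ = χ₁ then 1 else 0) fun χ hχ => by
      rcases Finset.mem_insert.mp hχ with rfl | hχ
      · rw [if_pos rfl, hy']
      · rw [if_neg (fun h2 : χ = ψ => hn (h2 ▸ hχ))]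
        split_ifs with h2
        · rw [h2, h1, Nat.cast_one]
        · rw [h0 χ hχ h2, Nat.cast_zero]
  have hs := sum_irrKerD_dg_sq h.normal_B nN hNQ
  have s1 : ∀ f : (G → ℂ) → ℕ → ℕ, (∀ χ, f χ 0 = 0) → ∑ χ ∈ irrKerD (Q ⊔ H) Q N,
      f χ (if χ = ψ then y else if χ = χ₁ then 1 else 0) = f χ₁ 1 := fun f hf => by
    rw [Finset.sum_eq_single_of_mem χ₁ hχ₁ fun χ hχ h2 => by
      rw [if_neg (fun h2 : χ = ψ => hn (h2 ▸ hχ)), if_neg h2, hf], if_neg hne.symm, if_pos rfl]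
  simp only [Finset.sum_insert hn, if_true] at hb
  rw [s1 (fun _ a => a ^ 2) (by simp), s1 (fun χ a => a * dg χ) (by simp), hd, e2] at hb
  rw [h.relIndex_B, ← hT] at hs
  have hs' : ∑ χ ∈ irrKerD (Q ⊔ H) Q N, dg χ ^ 2 = 𝐨(H) ^ 2 * T := by nlinarith
  rw [hs'] at hb
  have d0 : 0 < 𝐨(H) ^ 2 := pow_pos Nat.card_pos 2
  have h3 : 𝐨(H) ^ 2 * (T * y * y) < 𝐨(H) ^ 2 * (2 * dg θ * y + 1) := by nlinarith
  exact Nat.le_of_mul_le_mul_right (Nat.lt_succ_iff.mp (Nat.lt_of_mul_lt_mul_left h3)) y0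

/-- The output of the character-theoretic argument. -/
structure Exc (Q H : Subgroup G) (e χ₁ : G → ℂ) : Prop where
  irr : e ∈ Irr (⊤ : Subgroup G)
  mem : χ₁ ∈ irrKerD (Q ⊔ H) Q ⁅Q, Q⁆
  one : ip (Q ⊔ H) e χ₁ = 1
  zero : ∀ χ ∈ irrKerD (Q ⊔ H) Q ⁅Q, Q⁆, χ ≠ χ₁ → ip (Q ⊔ H) e χ = 0
  lin : ∀ l ∈ irrKer (Q ⊔ H) Q, ip (Q ⊔ H) e l = 0
  real : (∀ χ ∈ irrKerD (Q ⊔ H) Q ⁅Q, Q⁆, star χ = χ) → star e = e
  ne_bot : ⁅Q, Q⁆ ≠ ⊥
  bound : ∀ M < ⁅Q, Q⁆, Q ⊔ H ≤ 𝐍(M) → ∃ θ ∈ Irr Q, M ≤ cfKer θ ∧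
    ind (Q ⊔ H) Q θ ∈ irrKerD (Q ⊔ H) Q ⊥ ∧ ind (Q ⊔ H) Q θ ∉ irrKerD (Q ⊔ H) Q ⁅Q, Q⁆ ∧
    dg (ind (Q ⊔ H) Q θ) = 𝐨(H) * dg θ ∧ ∃ y T : ℕ, 0 < y ∧
      ip (Q ⊔ H) e (ind (Q ⊔ H) Q θ) = y ∧ 𝐨(H) * T + 1 = ⁅Q, Q⁆.relIndex Q ∧ T * y ≤ 2 * dg θ

theorem norm_der (h : ZT Q H t) : Q ⊔ H ≤ 𝐍((⁅Q, Q⁆ : Subgroup G)) :=
  H1.le_normalizer_commutator h.normQ h.normQ

theorem der_le (Q : Subgroup G) : ⁅Q, Q⁆ ≤ Q := H1.commutator_le_of_le_normalizer le_normalizer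

theorem not_le_der_sup (h : ZT Q H t) {K : Subgroup G} (hK : K < Q) (nK : Q ≤ 𝐍(K)) :
    ¬ Q ≤ ⁅Q, Q⁆ ⊔ K := fun h1 =>
  hK.not_ge (le_of_le_comm_sup h.frob.nilpotent ⟨le_rfl, le_normalizer⟩ ⟨hK.le, nK⟩ h1)

theorem eq_sum (_h : ZT Q H t) {e : G → ℂ} (he : e ∈ Irr (⊤ : Subgroup G))
    (hl : ∀ l ∈ irrKer (Q ⊔ H) Q, ip (Q ⊔ H) e l = 0) :
    res (Q ⊔ H) e = ∑ χ ∈ irrKerD (Q ⊔ H) Q ⊥, ip (Q ⊔ H) e χ • χ := by
  rw [eq_sum_irr (res_mem_CF le_top (irr_mem_CF he)), irrKerD_eq_sdiff, irrKer_bot, eq_comm]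
  simp only [ip_res_left]
  refine Finset.sum_subset Finset.sdiff_subset fun χ h1 h2 => ?_
  rw [hl χ (by simpa [h1] using h2), zero_smul]

theorem exists_Exc (h : ZT Q H t) (hZ : Q ≠ h.Z) (hX : (𝐨(H) + 1) ^ 2 ≤ ⁅Q, Q⁆.relIndex Q) :
    ∃ e χ₁, Exc Q H e χ₁ := by
  have nW := H1.le_normalizer_sup h.norm_der h.normZ
  obtain ⟨χ₁, hχ₁⟩ := irrKerD_nonempty (K := Q ⊔ H) (H := Q) (M := ⁅Q, Q⁆ ⊔ h.Z)
    ⟨(sup_le (der_le Q) h.Z_le).trans le_sup_left, nW⟩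
    (h.not_le_der_sup (lt_of_le_of_ne h.Z_le hZ.symm) (le_sup_left.trans h.normZ))
  have hχ : χ₁ ∈ irrKerD (Q ⊔ H) Q ⁅Q, Q⁆ := irrKerD_mono _ le_rfl le_sup_left hχ₁
  obtain ⟨e, he, h1, h0, hl, hr⟩ := h.exists_exc le_rfl (der_le Q) h.norm_der hX hχ
  have hd := (h.card_X le_rfl (der_le Q) h.norm_der).1 χ₁ hχ
  obtain ⟨N, ⟨a1, a2, a3⟩, hmin⟩ := exists_minimal_of_wellFoundedLT (fun N : Subgroup G =>
    N ≤ ⁅Q, Q⁆ ∧ Q ⊔ H ≤ 𝐍(N) ∧ ∀ χ ∈ irrKerD (Q ⊔ H) Q N, χ ≠ χ₁ → ip (Q ⊔ H) e χ = 0)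
    ⟨_, le_rfl, h.norm_der, h0⟩
  have hχN : χ₁ ∈ irrKerD (Q ⊔ H) Q N := irrKerD_mono _ le_rfl a1 hχ
  have NQ := a1.trans (der_le Q)
  have hN0 : N ≠ ⊥ := by
    rintro rfl
    have e1 := h.eq_sum he hl
    rw [Finset.sum_eq_single_of_mem χ₁ hχN fun χ hχ hne => by rw [a3 χ hχ hne, zero_smul], h1,
      one_smul] at e1
    have e2 : h.Z ≤ cfKer e := ((irr_isChar he).le_cfKer_res_iff (h.Z_le.trans le_sup_left)
      le_top).mp (e1 ▸ le_sup_right.trans (mem_irrKerD.mp hχ₁).2.1)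
    obtain ⟨s, hs, s1, hss⟩ := h.exists_invol
    have e3 := h.eq_top_of_invol (normalizer_eq_top_iff.mp
      (top_le_iff.mp (le_norm_cfKer (irr_mem_CF he)))) hs s1 hss (e2 (h.mem_Z.mpr ⟨hs, hss⟩))
    have e4 := hl _ (cf1_mem_irrKer le_sup_left)
    rw [(irr_eq_cf1_iff he).mpr e3.ge, ← ip_res_left, res_cf1 le_top,
      ip_irr_self (cf1_mem_Irr _)] at e4
    exact one_ne_zero e4
  have hb : ∀ M < N, Q ⊔ H ≤ 𝐍(M) → ∃ θ ∈ Irr Q, M ≤ cfKer θ ∧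
      ind (Q ⊔ H) Q θ ∈ irrKerD (Q ⊔ H) Q ⊥ ∧ ind (Q ⊔ H) Q θ ∉ irrKerD (Q ⊔ H) Q N ∧
      dg (ind (Q ⊔ H) Q θ) = 𝐨(H) * dg θ ∧ ∃ y T : ℕ, 0 < y ∧
      ip (Q ⊔ H) e (ind (Q ⊔ H) Q θ) = y ∧ 𝐨(H) * T + 1 = N.relIndex Q ∧ T * y ≤ 2 * dg θ := by
    intro M hM nM
    by_contra hc
    refine hM.not_ge (hmin ⟨hM.le.trans a1, nM, fun ψ hψ hne => ?_⟩ hM.le)
    by_contra hy
    have hψ' := irrKerD_mono _ le_rfl bot_le hψ
    obtain ⟨θ, hθ, rfl, b1, b2⟩ := h.bound_aux he NQ a2 hχN hd h1 a3 hψ' hne hy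
    exact hc ⟨θ, hθ, (le_cfKer_ind_irr_iff le_sup_left nM hθ).mp (mem_irrKerD.mp hψ).2.1, hψ',
      fun h2 => hy (a3 _ h2 hne), b1, b2⟩
  obtain rfl : N = ⁅Q, Q⁆ := by
    by_contra hne
    have := h.frob.nilpotent
    obtain ⟨θ, hθ, b1, -, -, -, y, T, y0, -, hT, hy⟩ := hb ⁅N, Q⁆
      (L.commutator_lt_of_isNilpotent NQ (le_sup_left.trans a2) hN0)
      (H1.le_normalizer_commutator a2 h.normQ)
    have b2 := irr_dg_sq_le NQ hθ (by rwa [commutator_comm])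
    have b3 := Nat.mul_le_mul (h.le_relIndex (lt_of_le_of_ne a1 hne) (der_le Q)
      (le_sup_right.trans a2) (le_sup_right.trans h.norm_der)) hX
    rw [relIndex_mul_relIndex _ _ _ a1 (der_le Q), ← hT] at b3
    rw [← hT] at b2
    have d3 := h.three_le
    have b4 : T ≤ 2 * dg θ := le_trans (Nat.le_mul_of_pos_right _ y0) hy
    have b5 : T * T ≤ 4 * (𝐨(H) * T + 1) := by nlinarith
    have b6 : T ≤ 4 * 𝐨(H) := by
      by_contra b6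
      nlinarith
    nlinarith [Nat.mul_le_mul_left 𝐨(H) b6, Nat.mul_le_mul_left (𝐨(H) * 𝐨(H)) d3]
  exact ⟨e, χ₁, he, hχ, h1, h0, hl, hr, hN0, hb⟩

theorem dProd_false (h : ZT Q H t) {e χ₁ : G → ℂ} (hE : Exc Q H e χ₁) {A C : Subgroup G}
    (hD : DProd A C Q) (nA : H ≤ 𝐍(A)) (hA : A ≠ ⊥) (hC : C ≠ ⊥) :
    ⁅Q, Q⁆ ≤ A := by
  have nA' : Q ⊔ H ≤ 𝐍(A) := sup_le hD.normal_left.2 nA
  have nAA := H1.le_normalizer_commutator nA' nA'
  refine (le_of_le_comm_sup h.frob.nilpotent ⟨der_le Q, le_sup_left.trans h.norm_der⟩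
    ⟨(der_le A).trans hD.le_left, le_sup_left.trans nAA⟩ ?_).trans (der_le A)
  by_contra hn
  have nM := H1.le_normalizer_sup (H1.le_normalizer_commutator h.norm_der h.normQ) nAA
  obtain ⟨θ, hθ, b1, -, -, -, y, T, y0, -, hT, hy⟩ := hE.bound _ (lt_of_le_not_ge (sup_le
    (H1.commutator_le_of_le_normalizer (le_sup_left.trans h.norm_der))
    (commutator_mono hD.le_left hD.le_left)) hn) nM
  have hW : ⁅Q, Q⁆ ⊔ A ≤ Q := sup_le (der_le Q) hD.le_left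
  have nM' := le_sup_left.trans nM
  have b2 := irr_dg_sq_le hW hθ (le_trans (H1.commutator_sup_le ((der_le Q).trans nM')
    (hD.le_left.trans nM') (by rw [commutator_comm]; exact le_sup_left) (by
      rw [commutator_comm]
      nth_rw 1 [← hD.sup]
      exact H1.commutator_sup_le (hD.le_left.trans nM') (hD.le_right.trans nM') le_sup_right
        (by rw [H1.commutator_eq_bot_iff_le_centralizer'.mpr hD.cent]; exact bot_le))) b1)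
  have nW := le_sup_right.trans (H1.le_normalizer_sup h.norm_der nA')
  have hA' : A < Q := lt_of_le_of_ne hD.le_left fun h1 =>
    hC (by rw [← hD.disj, h1, inf_eq_right.mpr hD.le_right])
  have hC' : C < Q := lt_of_le_of_ne hD.le_right fun h1 =>
    hA (by rw [← hD.disj, h1, inf_eq_left.mpr hD.le_left])
  have b3 := h.le_relIndex (lt_of_le_not_ge hW (h.not_le_der_sup hA' hD.normal_left.2)) le_rfl nW
    h.frob.norm
  have b4 := h.le_relIndex (lt_of_le_not_ge (le_sup_left (a := ⁅Q, Q⁆) (b := A)) fun h1 =>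
    h.not_le_der_sup hC' hD.normal_right.2 (by
      nth_rw 1 [← hD.sup]
      exact sup_le_sup_right (le_sup_right.trans h1) C)) hW (le_sup_right.trans h.norm_der) nW
  rw [← relIndex_mul_relIndex _ _ _ le_sup_left hW] at hT
  generalize (⁅Q, Q⁆ ⊔ A).relIndex Q = u at b2 b3 hT
  have d3 := h.three_le
  have b5 : T ≤ 2 * dg θ := le_trans (Nat.le_mul_of_pos_right _ y0) hy
  have b6 : u + 1 ≤ T := by
    by_contra b6
    nlinarith [Nat.mul_le_mul_right u b4, Nat.mul_le_mul_left 𝐨(H) (show T ≤ u by omega)]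
  nlinarith [Nat.mul_le_mul b6 b6, Nat.mul_le_mul b5 b5]

theorem isPGroup (h : ZT Q H t) : IsPGroup 2 Q := by
  by_cases hZ : Q = h.Z
  · exact hZ ▸ h.isPGroup_Z
  have hD := dProd_pCoreOf_of_isNilpotent Nat.prime_two h.frob.nilpotent
  have nA : H ≤ 𝐍(pCoreOf 2 Q) := h.frob.norm.trans (H2.normalizer_le_normalizer_pCoreOf 2 Q)
  have nC : H ≤ 𝐍(H2.pPrimeCoreOf 2 Q) := by
    rw [pPrimeCoreOf_eq Nat.prime_two]; exact h.frob.norm.trans (norm_le_norm_piCoreOf _ Q)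
  by_cases hC : H2.pPrimeCoreOf 2 Q = ⊥
  · have := hD.sup
    rw [hC, sup_bot_eq] at this
    exact this ▸ (isSyl_pCoreOf_of_isNilpotent Nat.prime_two h.frob.nilpotent).pgrp
  have hA : pCoreOf 2 Q ≠ ⊥ := fun h1 => by
    have := card_le_of_le (le_pCoreOf ⟨h.Z_le, le_sup_left.trans h.normZ⟩ h.isPGroup_Z)
    rw [h1, card_bot, h.card_Z] at this
    have := h.three_le
    omega
  have hA' : pCoreOf 2 Q < Q := lt_of_le_of_ne hD.le_left fun h1 =>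
    hC (by rw [← hD.disj, h1, inf_eq_right.mpr hD.le_right])
  have hC' : H2.pPrimeCoreOf 2 Q < Q := lt_of_le_of_ne hD.le_right fun h1 =>
    hA (by rw [← hD.disj, h1, inf_eq_left.mpr hD.le_left])
  obtain ⟨e, χ₁, hE⟩ := h.exists_Exc hZ (h.sq_le_relIndex (M := ⁅Q, Q⁆ ⊔ pCoreOf 2 Q)
    (lt_of_le_not_ge le_sup_left fun h1 => h.not_le_der_sup hC' hD.normal_right.2 (by
      nth_rw 1 [← hD.sup]
      exact sup_le_sup_right (le_sup_right.trans h1) _))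
    (lt_of_le_not_ge (sup_le (der_le Q) hD.le_left) (h.not_le_der_sup hA' hD.normal_left.2))
    (le_sup_right.trans h.norm_der) (H1.le_normalizer_sup (le_sup_right.trans h.norm_der) nA))
  exact absurd (eq_bot_iff.mpr (hD.disj ▸ le_inf (h.dProd_false hE hD nA hA hC)
    (h.dProd_false hE hD.symm nC hC hA))) hE.ne_bot

end ZT

end Cfsg.Agent.P2
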