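/-
P2: `Q` is elementary abelian or of order `(|H| + 1) ^ 2`.
-/
import Cfsg.Agent.P2.Chars2

set_option autoImplicit false
set_option linter.unusedSectionVars false

namespace Cfsg.Agent.P2

open Subgroup Cfsg Cfsg.Agent Cfsg.Agent.FT
open scoped commutatorElement ComplexConjugate

universe u

variable {G : Type u} [Group G] [Finite G]

namespace ZT

variable {Q H : Subgroup G} {t : G}

theorem odd_iff (h : ZT Q H t) {x : G} : x ∉ classSupp (sharp Q) ⊤ ↔ Odd (orderOf x) := by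
  constructor
  · intro hx
    by_contra ho
    obtain ⟨m, hm⟩ := Nat.not_odd_iff_even.mp ho
    have m0 : 0 < m := by have := orderOf_pos x; omega
    have u1 : x ^ m ≠ 1 := pow_ne_one_of_lt_orderOf m0.ne' (by omega)
    obtain ⟨g, hg⟩ := h.invol_conj (u := x ^ m) (by rw [← pow_add, ← hm, pow_orderOf_eq_one])
    have h2 : g * x * g⁻¹ ∈ Q := h.cent hg (by simpa using u1) (by
      rw [← conj_pow]; exact Commute.pow_left (Commute.refl _) m)
    exact hx ⟨g * x * g⁻¹, ⟨h2, by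
      intro h3
      have : x = 1 := by simpa using h3
      exact u1 (by rw [this, one_pow])⟩, g⁻¹, mem_top _, by group⟩
  · rintro ho ⟨a, ⟨ha, a1⟩, g, -, rfl⟩
    obtain ⟨k, hk⟩ := (IsPGroup.iff_orderOf.mp h.isPGroup) ⟨a, ha⟩
    have e : orderOf (g * a * g⁻¹) = orderOf a := 
      (MulAut.conj g).orderOf_eq a
    rw [orderOf_mk] at hk
    rw [e, hk] at ho
    rcases k with _ | k
    · exact a1 (orderOf_eq_one_iff.mp hk)
    · exact absurd ho (by simp [pow_succ])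

theorem sum_sq (h : ZT Q H t) {e : G → ℂ} (he : e ∈ CF (⊤ : Subgroup G))
    (h0 : ∑ x ∈ fs (Q : Set G), e (x * x) = ∑ x ∈ fs (Q : Set G), e x) :
    ∑ x ∈ fs ((⊤ : Subgroup G) : Set G), e (x * x) =
      ∑ x ∈ fs ((⊤ : Subgroup G) : Set G), e x := by
  classical
  let F : G → ℂ := fun x => e (x * x) - e x
  have hF : ∀ g x, F (g * x * g⁻¹) = F x := fun g x => by
    simp only [F]
    rw [conj_mul, CF_conj he (mem_top g), CF_conj he (mem_top g)]
  let φ : G → ℂ := (sharp Q).indicator F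
  have hφ : φ ∈ CFon (Q ⊔ H) (sharp Q) := by
    refine ⟨⟨fun x hx => Set.indicator_of_notMem (fun h1 => hx (mem_sup_left h1.1)) _,
      fun g hg x => ?_⟩, fun x hx => Set.indicator_of_notMem hx _⟩
    by_cases hx : x ∈ sharp Q
    · simp only [φ]
      rw [Set.indicator_of_mem hx, Set.indicator_of_mem (h.normedTI.norm g hg x hx), hF]
    · simp only [φ]
      rw [Set.indicator_of_notMem hx, Set.indicator_of_notMem fun h1 => hx (by
        simpa [mul_assoc] using h.normedTI.norm g⁻¹ (inv_mem hg) _ h1)]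
  set U := classSupp (sharp Q) (⊤ : Subgroup G)
  have h1 : ∑ x ∈ fs U, F x = 0 := by
    have a1 := ip_ind_left le_top φ (cf1_mem_CF (⊤ : Subgroup G)) (H := Q ⊔ H)
    rw [← ip_res_right (Q ⊔ H), res_cf1 le_top, ip_cf1_right, ip_cf1_right,
      ← sum_fs_subset (A := sharp Q) h.normedTI.subset fun x _ hx => CFon_off hφ hx,
      sum_fs_congr (A := sharp Q) (g := F) fun x hx => Set.indicator_of_mem hx _,
      ← sum_fs_subset (A := U) (fun _ _ => mem_top _) fun x _ hx =>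
        CFon_off (ind_mem_CFon ⊤ fun y _ hy => CFon_off hφ hy) hx,
      sum_fs_congr (A := U) (g := F) (by
        rintro _ ⟨a, ha, g, hg, rfl⟩
        rw [CF_conj (ind_mem_CF _ _ _) hg, h.normedTI.ind_apply hφ ha, hF]
        exact Set.indicator_of_mem ha _)] at a1
    have a2 := sum_fs_sharp Q F
    rw [show F 1 = 0 by simp [F], zero_add, Finset.sum_sub_distrib, h0, sub_self] at a2
    rw [← a2, mul_zero, mul_eq_zero] at a1
    exact a1.resolve_left (inv_ne_zero (card_ne_zero_C _))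
  have h2 : ∑ x ∈ fs (((⊤ : Subgroup G) : Set G) \ U), F x = 0 := by
    rw [Finset.sum_sub_distrib, sub_eq_zero]
    have hm : Set.MapsTo (fun x : G => x * x) (((⊤ : Subgroup G) : Set G) \ U)
        (((⊤ : Subgroup G) : Set G) \ U) :=
      fun x hx => ⟨mem_top _, h.odd_iff.mpr ((h.odd_iff.mp hx.2).of_dvd_nat (by
        simp only [← sq]; exact orderOf_pow_dvd 2))⟩
    refine sum_fs_bij (fun x => x * x) (((Set.toFinite _).injOn_iff_bijOn_of_mapsTo hm).mp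
      fun x hx y hy hxy => ?_) e
    obtain ⟨m, hm⟩ := (h.odd_iff.mp hx.2).mul (h.odd_iff.mp hy.2)
    have c : ∀ z : G, orderOf z ∣ 2 * m + 1 → (z * z) ^ (m + 1) = z := fun z hz => by
      rw [← sq, ← pow_mul, show 2 * (m + 1) = 2 * m + 1 + 1 by ring, pow_succ,
        orderOf_dvd_iff_pow_eq_one.mp hz, one_mul]
    rw [← c x (hm ▸ dvd_mul_right _ _), ← c y (hm ▸ dvd_mul_left _ _)]
    exact congrArg (· ^ (m + 1)) hxy
  rw [← sub_eq_zero, ← Finset.sum_sub_distrib]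
  exact (sum_fs_diff (A := U) (fun _ _ => mem_top _) F).trans (by rw [h1, h2, add_zero])

theorem cube_false (h : ZT Q H t) {e χ₁ : G → ℂ} (hE : Exc Q H e χ₁) (hsq : ∀ x ∈ Q, x * x ∈ h.Z)
    (hd : ⁅Q, Q⁆ = h.Z) {j : ℕ} (hj : h.Z.relIndex Q = (𝐨(H) + 1) ^ (j + 2)) : False := by
  obtain ⟨θ, hθ, -, b1, b2, b3, y, T, y0, b4, hT, hy⟩ := hE.bound ⊥ (bot_lt_iff_ne_bot.mpr hE.ne_bot)
    (norm_bot.ge.trans' le_top)
  have b5 := irr_dg_sq_le h.Z_le hθ (by
    rw [commutator_comm, H1.commutator_eq_bot_iff_le_centralizer'.mpr fun x hx z hz =>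
      (h.central (h.mem_Z.mp hz).1 (h.mem_Z.mp hz).2 hx).symm]
    exact bot_le)
  have d3 := h.three_le
  rw [hd, hj] at hT
  rw [hj] at b5
  have b6 : T ≤ 2 * dg θ := le_trans (Nat.le_mul_of_pos_right _ y0) hy
  obtain rfl : j = 0 := by
    by_contra hj0
    obtain ⟨i, rfl⟩ := Nat.exists_eq_succ_of_ne_zero hj0
    rw [Nat.succ_eq_add_one] at hT b5
    set r := 𝐨(H) + 1 with hr
    have p1 : 1 ≤ r ^ i := Nat.one_le_pow _ _ (by omega)
    have c1 : r ^ (i + 2) < T := by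
      by_contra c1
      have : r ^ (i + 1 + 2) = 𝐨(H) * r ^ (i + 2) + r ^ (i + 2) := by rw [hr]; ring
      have : 1 < r ^ (i + 2) := Nat.one_lt_pow (by omega) (by omega)
      nlinarith [Nat.mul_le_mul_left 𝐨(H) (not_lt.mp c1)]
    have c2 : r ^ (i + 2) * r ^ (i + 2) < 4 * r ^ (i + 1 + 2) := by
      nlinarith [Nat.mul_self_lt_mul_self c1, Nat.mul_le_mul b6 b6]
    have c3 : r ^ (i + 2) * r ^ (i + 2) = r ^ i * r * r ^ (i + 1 + 2) := by ring
    have c4 : 4 ≤ r ^ i * r := by nlinarith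
    nlinarith [Nat.mul_le_mul_right (r ^ (i + 1 + 2)) c4]
  rw [zero_add] at hT hj b5
  obtain rfl : T = 𝐨(H) + 2 :=
    Nat.eq_of_mul_eq_mul_left (Nat.card_pos (α := H)) (by nlinarith)
  have cQ : 𝐨(Q) = (𝐨(H) + 1) ^ 3 := by
    rw [← H1.card_mul_relIndex h.Z_le, h.card_Z, hj]; ring
  have c1 : dg θ ≤ 𝐨(H) + 1 := by
    by_contra c1
    nlinarith
  obtain rfl : y = 1 := by
    by_contra c2
    have : 2 ≤ y := by omega
    nlinarith
  have c2 : dg θ = 𝐨(H) + 1 := by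
    obtain ⟨n, -, hn⟩ := h.exists_pow
    obtain ⟨i, -, hi⟩ := (Nat.dvd_prime_pow Nat.prime_two).mp
      (by rw [pow_mul, ← hn, ← cQ]; exact irr_dg_dvd_card hθ : dg θ ∣ 2 ^ (n * 3))
    rw [hi, hn] at c1 ⊢
    have := (Nat.pow_le_pow_iff_right Nat.one_lt_two).mp c1
    have c3 : 2 ^ n < 2 ^ (i + 1) := by rw [pow_succ]; omega
    have := (Nat.pow_lt_pow_iff_right Nat.one_lt_two).mp c3
    rw [show i = n by omega]
  set ψ := ind (Q ⊔ H) Q θ
  set X := irrKerD (Q ⊔ H) Q ⁅Q, Q⁆ with hX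
  have hXs : X ⊆ irrKerD (Q ⊔ H) Q ⊥ := irrKerD_mono _ le_rfl bot_le
  have hS : insert ψ X = irrKerD (Q ⊔ H) Q ⊥ := by
    have s1 := sum_irrKerD_dg_sq h.normal_B (M := ⊥) (norm_bot.ge.trans' le_top) bot_le
    have s2 := sum_irrKerD_dg_sq h.normal_B h.norm_der (der_le Q)
    rw [relIndex_bot_left, cQ, h.relIndex_B] at s1
    rw [← hX, hd, hj, h.relIndex_B] at s2
    by_contra hne
    have := Finset.sum_lt_sum_of_subset (f := fun χ => dg χ ^ 2) (Finset.insert_subset b1 hXs)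
      (Finset.exists_of_ssubset ⟨Finset.insert_subset b1 hXs, fun h1 =>
        hne ((Finset.insert_subset b1 hXs).antisymm h1)⟩).choose_spec.1
      (Finset.exists_of_ssubset ⟨Finset.insert_subset b1 hXs, fun h1 =>
        hne ((Finset.insert_subset b1 hXs).antisymm h1)⟩).choose_spec.2
      (pow_pos (irr_dg_pos (irrKerD_subset _ _ _ (Finset.exists_of_ssubset
        ⟨Finset.insert_subset b1 hXs, fun h1 =>
        hne ((Finset.insert_subset b1 hXs).antisymm h1)⟩).choose_spec.1)) 2)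
      fun _ _ _ => Nat.zero_le _
    rw [Finset.sum_insert b2, b3, c2] at this
    nlinarith
  have e1 := h.eq_sum hE.irr hE.lin
  rw [← hS, Finset.sum_insert b2, Finset.sum_eq_single_of_mem χ₁ hE.mem fun χ hχ hne => by
    rw [hE.zero χ hχ hne, zero_smul], hE.one, b4, Nat.cast_one, one_smul, one_smul] at e1
  have e2 : ∀ x ∈ Q, e x = ψ x + χ₁ x := fun x hx => by
    rw [← res_of_mem e (mem_sup_left hx : x ∈ Q ⊔ H), e1, Pi.add_apply]
  have hψ := (mem_irrKerD.mp b1).1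
  have kX : ∀ χ ∈ X, h.Z ≤ cfKer χ := fun χ hχ => hd ▸ (mem_irrKerD.mp hχ).2.1
  have hreal := hE.real fun χ hχ => funext fun x => by
    by_cases hx : x ∈ Q
    · rw [star_apply', ← (irr_isChar (mem_irrKerD.mp hχ).1).apply_inv,
        ← kX χ hχ (hsq x hx) x⁻¹, mul_inv_cancel_right]
    · rw [star_apply', CFon_off (h.mem_CFon hχ) hx, map_zero]
  have v1 : ψ 1 = 𝐨(H) * (𝐨(H) + 1) := by rw [irr_one_eq hψ, b3, c2]; push_cast; ring
  have v2 : χ₁ 1 = 𝐨(H) := by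
    rw [irr_one_eq (mem_irrKerD.mp hE.mem).1, (h.card_X le_rfl (der_le Q) h.norm_der).1 χ₁ hE.mem]
  have ZB : h.Z ≤ Q ⊔ H := h.Z_le.trans le_sup_left
  have v3 : ∀ z ∈ h.Z, z ≠ 1 → ψ z = -(𝐨(H) + 1) := fun z hz z1 => by
    have a1 : ip h.Z ψ (cf1 h.Z) = 0 := by
      by_contra a1
      exact b2 (mem_irrKerD.mpr ⟨hψ, hd ▸ (le_cfKer_iff_of_constt_res ⟨ZB, h.normZ⟩ le_rfl h.normZ
        hψ (mem_constt.mpr ⟨cf1_mem_Irr _, by rwa [ip_res_left]⟩)).mpr (le_cfKer_cf1 _),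
        (mem_irrKerD.mp b1).2.2⟩)
    rw [ip_cf1_right, mul_eq_zero, sum_fs_sharp, sum_fs_congr (g := fun _ => ψ z) fun w hw => by
      obtain ⟨k, hk, rfl⟩ := h.trans (h.mem_Z.mp hz).1 z1 (h.mem_Z.mp hz).2 (h.mem_Z.mp hw.1).1 hw.2
        (h.mem_Z.mp hw.1).2
      exact CF_conj (irr_mem_CF hψ) (mem_sup_right hk) z] at a1
    have a2 := sum_fs_sharp h.Z fun _ => ψ z
    rw [sum_fs_const, h.card_Z, nsmul_eq_mul] at a2
    have a3 := a1.resolve_left (inv_ne_zero (card_ne_zero_C _))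
    refine mul_left_cancel₀ (card_ne_zero_C H) ?_
    push_cast at a2
    linear_combination a2 + a3 - v1
  refine sum_sq_ne_zero hE.irr hreal ?_
  have z1 : ∀ K : Subgroup G, ip K e (cf1 K) = 0 → ∑ x ∈ fs (K : Set G), e x = 0 := fun K hK => by
    rw [ip_cf1_right, mul_eq_zero] at hK
    exact hK.resolve_left (inv_ne_zero (card_ne_zero_C _))
  rw [h.sum_sq (irr_mem_CF hE.irr), z1 ⊤ (ip_irr_of_ne hE.irr (cf1_mem_Irr ⊤) fun e3 => by
    have e4 := hE.lin _ (cf1_mem_irrKer le_sup_left)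
    rw [e3, ← ip_res_left, res_cf1 le_top, ip_irr_self (cf1_mem_Irr _)] at e4
    exact one_ne_zero e4)]
  rw [z1 Q (by
    rw [← ip_res_left, ← res_res (le_sup_left : Q ≤ Q ⊔ H), ip_res_left,
      ← ip_ind_right le_sup_left (res_mem_CF le_top (irr_mem_CF hE.irr)), ip_res_left,
      CH1.ind_cf1_eq_sum h.normal_B, ip_sum_right]
    exact Finset.sum_eq_zero fun l hl => by rw [ip_smul_right, hE.lin l hl, mul_zero]),
    sum_fs_diff (A := h.Z) h.Z_le,
    sum_fs_congr (A := h.Z) (f := fun x => e (x * x)) (g := fun _ => e 1) fun x hx => by rw [(h.mem_Z.mp hx).2],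
    sum_fs_congr (A := (Q : Set G) \ h.Z) (f := fun x => e (x * x)) (g := fun _ => (-1 : ℂ)) fun x hx => by
      rw [e2 _ (Q.mul_mem hx.1 hx.1), v3 _ (hsq x hx.1) fun h1 => hx.2 (h.mem_Z.mpr ⟨hx.1, h1⟩),
        apply_of_mem_cfKer (kX χ₁ hE.mem (hsq x hx.1)), v2]
      ring, sum_fs_const, e2 1 Q.one_mem, v1, v2, h.card_Z]
  have a2 := sum_fs_diff (A := (h.Z : Set G)) (B := (Q : Set G)) (fun _ hx => h.Z_le hx) fun _ => (-1 : ℂ)
  rw [sum_fs_const, sum_fs_const, cQ, h.card_Z] at a2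
  simp only [nsmul_eq_mul] at a2 ⊢
  push_cast at a2 ⊢
  linear_combination -a2

theorem cases (h : ZT Q H t) :
    Q = h.Z ∨ ((∀ x ∈ Q, x * x ∈ h.Z) ∧ ⁅Q, Q⁆ ≠ ⊥ ∧ h.Z.relIndex Q = 𝐨(H) + 1) := by
  by_cases hZ : Q = h.Z
  · exact Or.inl hZ
  right
  have hlt : h.Z < Q := lt_of_le_of_ne h.Z_le (Ne.symm hZ)
  have nZ := le_sup_right.trans h.normZ
  have nD := le_sup_right.trans h.norm_der
  have hna : ⁅Q, Q⁆ ≠ ⊥ := fun h1 => by
    obtain ⟨e, χ₁, hE⟩ := h.exists_Exc hZ (h.sq_le_relIndex (M := h.Z)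
      (h1 ▸ bot_lt_iff_ne_bot.mpr fun h2 => by
        have := h.card_Z
        have := h.three_le
        rw [h2, card_bot] at *
        omega) hlt nD nZ)
    exact hE.ne_bot h1
  obtain ⟨n, hn2, hn⟩ := h.exists_pow
  have := Fintype.ofFinite (GaloisField 2 n)
  obtain ⟨φ, k, hs⟩ := h.exists_suz (GaloisField 2 n) (by
    rw [hn, ← Nat.card_eq_fintype_card, GaloisField.card 2 n (by omega)])
    h.isPGroup h.Z_le le_rfl h.frob.norm
  have hsq := hs.sq_mem fun h1 => hna (commutator_eq_bot_iff_le_centralizer.mpr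
    (le_centralizer_iff_isMulCommutative.mpr h1))
  refine ⟨hsq, hna, ?_⟩
  have hd : ⁅Q, Q⁆ = h.Z := by
    have h1 : ⁅Q, Q⁆ ≤ h.Z := commutator_le.mpr fun x hx y hy => comm_mem_of_sq_mem hsq hx hy
    by_contra h2
    have h3 := h.le_relIndex (lt_of_le_of_ne h1 h2) h.Z_le nD nZ
    have h4 := H1.card_mul_relIndex h1
    have h5 := one_lt_card_iff_ne_bot _ |>.mpr hna
    rw [h.card_Z] at h4
    nlinarith
  obtain ⟨a, ha⟩ : ∃ a, h.Z.relIndex Q = 2 ^ a := by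
    obtain ⟨m, hm⟩ := IsPGroup.iff_card.mp h.isPGroup
    obtain ⟨a, -, ha⟩ := (Nat.dvd_prime_pow Nat.prime_two).mp (hm ▸ relIndex_dvd_card h.Z Q)
    exact ⟨a, ha⟩
  obtain ⟨T, hT⟩ := h.relIndex_mod h.Z_le le_rfl nZ h.frob.norm
  have h1 := Nat.pow_sub_one_mod_pow_sub_one 2 n a
  rw [← ha, ← hT, ← hn, Nat.add_sub_cancel, Nat.add_sub_cancel, Nat.mul_mod_right] at h1
  have h2 : a % n = 0 := by
    by_contra h2
    have := Nat.one_lt_two_pow h2
    omega
  obtain ⟨j, rfl⟩ := Nat.dvd_of_mod_eq_zero h2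
  rw [pow_mul, ← hn] at ha
  rcases j with _ | _ | j
  · exact absurd (relIndex_eq_one.mp ha) hlt.not_ge
  · simpa using ha
  · obtain ⟨e, χ₁, hE⟩ := h.exists_Exc hZ (by
      rw [hd, ha]; exact Nat.pow_le_pow_right (by omega) (by omega))
    exact (h.cube_false hE hsq hd ha).elim

end ZT

end Cfsg.Agent.P2
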