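/-
P2: the algebra determining the parameters of a Suzuki group.
-/
import Cfsg.Agent.P2.Lin

set_option autoImplicit false

namespace Cfsg.Agent.P2

variable {F : Type*} [Field F] [hc : CharP F 2]

/-- The first functional equation. -/
def E1 (γ p P u U : F) : Prop :=
  (p * P) ^ 2 * ((1 + p + u) * (1 + P + U)) =
    u * U * (1 + u) * (1 + U) * ((1 + γ) * (P + U) * p + γ * (p + u) * P)

/-- The second functional equation. -/
def E2 (γ p P u U : F) : Prop :=
  u * U * ((1 + γ) * (P + U) * p + γ * (p + u) * P) * (1 + (1 + γ) * U + γ * u) =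
    p * P * ((1 + γ) * (1 + P) * (P + U) * p + γ * (1 + p) * (p + u) * P)

theorem alg_res {γ p P u U : F} (r : p * P + u * U = 1) (e1 : E1 γ p P u U) (e2 : E2 γ p P u U)
    (hp : p ≠ 0) (hP : P ≠ 0) (hu : u ≠ 0) (hU : U ≠ 0) (hu1 : u ≠ 1) (hU1 : U ≠ 1)
    (hx : p * U ≠ u * P) (h0 : γ ≠ 0) (h1 : γ ≠ 1) :
    u * U * (1 + U) + p * P * (1 + P) ≠ 0 ∧ u * U * (1 + u) + p * P * (1 + p) ≠ 0 ∧
      u * (1 + p + u) ^ 2 * P ^ 2 = U * (1 + P + U) ^ 2 * p ^ 2 := by
  unfold E1 at e1
  unfold E2 at e2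
  have hA : u * U * (1 + u) * (1 + U) * (p * U + u * P) ≠ 0 := by
    simp only [ne_eq, mul_eq_zero, CharTwo.add_eq_zero, hu, hU, hu1.symm, hU1.symm, hx, or_self,
      not_false_eq_true]
  have a0 : u * U * (1 + u) * (1 + U) * (p * U + u * P) * γ =
      p * (1 + P + U + P * u) * (u * U * (1 + U) + p * P * (1 + P)) := by
    clear * - hc r e1; grind
  have a1 : u * U * (1 + u) * (1 + U) * (p * U + u * P) * (1 + γ) =
      P * (1 + p + u + p * U) * (u * U * (1 + u) + p * P * (1 + p)) := by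
    clear * - hc r e1; grind
  have s0 : u * U * (1 + U) + p * P * (1 + P) ≠ 0 := fun h =>
    mul_ne_zero hA h0 (by rw [a0, h, mul_zero])
  have s1 : u * U * (1 + u) + p * P * (1 + p) ≠ 0 := fun h =>
    mul_ne_zero hA (fun h => h1 (CharTwo.add_eq_zero.mp h).symm) (by rw [a1, h, mul_zero])
  refine ⟨s0, s1, ?_⟩
  have b : (p * P) ^ 2 * (u * U) * (u * (1 + p + u) ^ 2 * P ^ 2 + U * (1 + P + U) ^ 2 * p ^ 2) =
      (P * (1 + p + u + p * U)) ^ 2 * (u * U * (1 + u) + p * P * (1 + p)) * ((P + U) * p) +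
      (p * (1 + P + U + P * u)) ^ 2 * (u * U * (1 + U) + p * P * (1 + P)) * ((p + u) * P) +
      p * (1 + P + U + P * u) * (P * (1 + p + u + p * U)) *
        ((P + U) * p * (u * U * (1 + u) + p * P * (1 + P)) +
          (p + u) * P * (u * U * (1 + U) + p * P * (1 + p))) := by
    clear * - hc r; grind
  have e3 : (1 + γ) ^ 2 * ((P + U) * p) * (u * U * (1 + U) + p * P * (1 + P)) +
      γ ^ 2 * ((p + u) * P) * (u * U * (1 + u) + p * P * (1 + p)) +
      γ * (1 + γ) * ((P + U) * p * (u * U * (1 + u) + p * P * (1 + P)) +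
          (p + u) * P * (u * U * (1 + U) + p * P * (1 + p))) = 0 := by
    clear * - hc e2; grind
  generalize u * U * (1 + u) * (1 + U) * (p * U + u * P) = A at a0 a1
  generalize (P + U) * p * (u * U * (1 + u) + p * P * (1 + P)) +
          (p + u) * P * (u * U * (1 + U) + p * P * (1 + p)) = W at b e3
  generalize u * U * (1 + U) + p * P * (1 + P) = S0 at *
  generalize u * U * (1 + u) + p * P * (1 + p) = S1 at *
  generalize p * (1 + P + U + P * u) = c0 at *
  generalize P * (1 + p + u + p * U) = c1 at *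
  have e4 : S0 * S1 * (c1 ^ 2 * S1 * ((P + U) * p) + c0 ^ 2 * S0 * ((p + u) * P) + c0 * c1 * W) = 0 := by
    linear_combination A ^ 2 * e3 - (P + U) * p * S0 * (A * (1 + γ) + c1 * S1) * a1 -
      (p + u) * P * S1 * (A * γ + c0 * S0) * a0 - W * (A * (1 + γ) * a0 + c0 * S0 * a1)
  rw [← b] at e4
  simp only [mul_eq_zero, s0, s1, hp, hP, hu, hU, pow_eq_zero_iff two_ne_zero, or_self,
    false_or] at e4
  exact CharTwo.add_eq_zero.mp e4

variable {θ : F ≃+* F} {γ : F}

theorem alg_fix (h1 : ∀ p u, p ≠ 0 → u ≠ 0 → p * θ p + u * θ u = 1 → E1 γ p (θ p) u (θ u)) {a : F}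
    (ha : θ a = a) : a = 0 ∨ a = 1 := by
  by_contra hn
  push Not at hn
  have := h1 a (1 + a) hn.1 (by grind) (by rw [map_add, map_one, ha]; grind)
  rw [E1, map_add, map_one, ha] at this
  grind

theorem alg_gamma (h1 : ∀ p u, p ≠ 0 → u ≠ 0 → p * θ p + u * θ u = 1 → E1 γ p (θ p) u (θ u))
    (h2 : ∀ p u, p ≠ 0 → u ≠ 0 → p * θ p + u * θ u = 1 → E2 γ p (θ p) u (θ u)) {p u : F}
    (hp : p ≠ 0) (hu : u ≠ 0) (r : p * θ p + u * θ u = 1) : γ = 0 ∨ γ = 1 := by
  by_contra hn
  push Not at hn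
  have hP : θ p ≠ 0 := by simpa using hp
  have hU : θ u ≠ 0 := by simpa using hu
  have hp1 : p ≠ 1 := by rintro rfl; simp [hu] at r
  have hu1 : u ≠ 1 := by rintro rfl; simp [hp] at r
  have hP1 : θ p ≠ 1 := by simpa using hp1
  have hU1 : θ u ≠ 1 := by simpa using hu1
  have hpu : p ≠ u := by rintro rfl; grind
  have hPU : θ p ≠ θ u := by simpa using hpu
  have hx : p * θ u ≠ u * θ p := fun h => by
    have := alg_fix h1 (a := p / u) (by rw [map_div₀]; field_simp; grind)
    grind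
  have r' : u * θ u + p * θ p = 1 := by rw [add_comm, r]
  have hD : 1 + p + u ≠ 0 := fun h => by
    have h3 : u = 1 + p := by grind
    rw [h3, map_add, map_one] at r
    have := alg_fix h1 (a := p) (by grind)
    grind
  have a1 := (alg_res r (h1 p u hp hu r) (h2 p u hp hu r) hp hP hu hU hu1 hU1 hx hn.1 hn.2).2.2
  have a2 := (alg_res r' (h1 u p hu hp r') (h2 u p hu hp r') hu hU hp hP hp1 hP1 hx.symm
    hn.1 hn.2).2.2
  have b1 := alg_fix h1 (a := u * (1 + p + u) ^ 2 / p ^ 2) (by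
    simp only [map_div₀, map_mul, map_pow, map_add, map_one]; field_simp; linear_combination -a1)
  have b2 := alg_fix h1 (a := p * (1 + u + p) ^ 2 / u ^ 2) (by
    simp only [map_div₀, map_mul, map_pow, map_add, map_one]; field_simp; linear_combination -a2)
  have c1 : u * (1 + p + u) ^ 2 = p ^ 2 := by
    rcases b1 with b1 | b1
    · simp [hu, hD, hp] at b1
    · field_simp at b1; exact b1
  have c2 : p * (1 + p + u) ^ 2 = u ^ 2 := by
    rw [add_right_comm] at b2
    rcases b2 with b2 | b2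
    · simp [hu, hD, hp] at b2
    · field_simp at b2; exact b2
  have d1 : p ^ 2 + p * u + u ^ 2 = 0 := by
    clear * - hc c1 c2 hpu
    grind
  have d2 := congrArg θ d1
  simp only [map_add, map_mul, map_pow, map_zero] at d2
  clear * - hc d1 d2 hx r hp hu
  grind

theorem alg_theta [Fintype F] (hN : Function.Surjective fun x => x * θ x)
    (h2 : ∀ p u, p ≠ 0 → u ≠ 0 → p * θ p + u * θ u = 1 → E2 1 p (θ p) u (θ u))
    {a : F} (a0 : a ≠ 0) (a1 : a ≠ 1) (x : F) : θ (θ x) = x ^ 2 := by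
  have hi := Finite.injective_iff_surjective.mpr hN
  have k1 : ∀ p u, p * θ p + u * θ u = 1 → p ^ 2 * θ p + u ^ 2 * θ u = 1 := fun p u r => by
    by_cases hp : p = 0
    · subst hp
      obtain rfl : u = 1 := hi (by simpa using r)
      simp
    by_cases hu : u = 0
    · subst hu
      obtain rfl : p = 1 := hi (by simpa using r)
      simp
    have := h2 p u hp hu r
    have hP : θ p ≠ 0 := by simpa using hp
    have hpu : p ≠ u := by rintro rfl; grind
    unfold E2 at this
    grind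
  have k2 : ∀ x y w, x * θ x + y * θ y = w * θ w → x ^ 2 * θ x + y ^ 2 * θ y = w ^ 2 * θ w := by
    intro x y w r
    by_cases hw : w = 0
    · subst hw
      obtain rfl : x = y := hi (by grind)
      grind
    have hW : θ w ≠ 0 := by simpa using hw
    have := k1 (x / w) (y / w) (by simp only [map_div₀]; field_simp; exact r)
    simp only [map_div₀] at this
    field_simp at this
    exact this
  let ν := (Equiv.ofBijective _ ⟨hi, hN⟩).symm
  have hν : ∀ y, ν y * θ (ν y) = y := fun y => (Equiv.ofBijective _ ⟨hi, hN⟩).apply_symm_apply y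
  have hν' : ∀ x, ν (x * θ x) = x := fun x => (Equiv.ofBijective _ ⟨hi, hN⟩).symm_apply_apply x
  let ρ₀ : F →+* F :=
    { toFun := fun y => ν y ^ 2 * θ (ν y)
      map_one' := by have := hν' 1; simp only [map_one, mul_one] at this; simp [this]
      map_mul' := fun x y => by
        have : ν (x * y) = ν x * ν y := by
          rw [← hν' (ν x * ν y), map_mul θ, mul_mul_mul_comm, hν, hν]
        rw [this, map_mul θ]; ring
      map_zero' := by have := hν' 0; simp only [zero_mul] at this; simp [this]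
      map_add' := fun x y => (k2 _ _ _ (by rw [hν, hν, hν])).symm }
  let ρ := RingEquiv.ofBijective ρ₀ (Finite.injective_iff_bijective.mp ρ₀.injective)
  have : Fact (Nat.Prime 2) := ⟨Nat.prime_two⟩
  rcases two_two (σ₁ := ρ) (σ₂ := θ.trans ρ) (τ₁ := frobeniusEquiv F 2) (τ₂ := θ) (fun x => by
    rw [RingEquiv.trans_apply, ← map_mul]
    change ν _ ^ 2 * θ (ν _) = x ^ 2 * θ x
    rw [hν']) with ⟨h3, h4⟩ | ⟨h3, h4⟩
  · have := DFunLike.congr_fun h4 (θ.symm a)
    rw [h3, RingEquiv.trans_apply, θ.apply_symm_apply, frobeniusEquiv_def] at this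
    grind
  · have := DFunLike.congr_fun h4 x
    rwa [h3, RingEquiv.trans_apply, frobeniusEquiv_def] at this

end Cfsg.Agent.P2
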