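/-
P2: the defining relations of a Suzuki group in coordinates.
-/
import Mathlib

set_option autoImplicit false

namespace Cfsg.Agent.P2

/-- Coordinates of a Suzuki group: `Q = {s a * z b}`, `K = {k κ}`, and the involution `t`. -/
structure SzRel {G F : Type*} [Group G] [Field F] (θ : F ≃+* F) (s z k : F → G) (t : G) :
    Prop where
  ss : ∀ a c, s a * s c = s (a + c) * z (a * θ c)
  zz : ∀ b d, z (b + d) = z b * z d
  sz : ∀ a b, s a * z b = z b * s a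
  kk : ∀ κ μ, κ ≠ 0 → μ ≠ 0 → k (κ * μ) = k κ * k μ
  ks : ∀ κ a, κ ≠ 0 → k κ * s a = s (κ * a) * k κ
  kz : ∀ κ b, κ ≠ 0 → k κ * z b = z (κ * θ κ * b) * k κ
  tt : t * t = 1
  tk : ∀ κ, κ ≠ 0 → t * k κ = k κ⁻¹ * t
  str : s 1 * (t * z 1 * t) = t * s 1
  faith : ∀ a b κ, κ ≠ 0 → s a * z b * k κ = 1 → a = 0 ∧ b = 0 ∧ κ = 1
  tB : ∀ a b κ, κ ≠ 0 → t ≠ s a * z b * k κ
  bruhat : ∀ g, (∃ a b κ, κ ≠ 0 ∧ g = s a * z b * k κ) ∨
    ∃ a b κ c d, κ ≠ 0 ∧ g = s a * z b * k κ * t * (s c * z d)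

end Cfsg.Agent.P2
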