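/-
P2: the relations with an undetermined cocycle force the Suzuki relations.
-/
import Cfsg.Agent.P2.Alg
import Cfsg.Agent.P2.SzRel

set_option autoImplicit false

namespace Cfsg.Agent.P2

/-- Coordinates with an undetermined parameter `γ`. -/
structure Rel {G F : Type*} [Group G] [Field F] (θ : F ≃+* F) (γ : F) (s z k : F → G) (t : G) :
    Prop where
  ss : ∀ a c, s a * s c = s (a + c) * z (θ a * c + γ * (θ a * c + a * θ c))
  zz : ∀ b d, z (b + d) = z b * z d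
  sz : ∀ a b, s a * z b = z b * s a
  kk : ∀ κ μ, κ ≠ 0 → μ ≠ 0 → k (κ * μ) = k κ * k μ
  ks : ∀ κ a, κ ≠ 0 → k κ * s a = s (κ * a) * k κ
  kz : ∀ κ b, κ ≠ 0 → k κ * z b = z (κ * θ κ * b) * k κ
  tt : t * t = 1
  tk : ∀ κ, κ ≠ 0 → t * k κ = k κ⁻¹ * t
  str : s 1 * (t * z 1 * t) = t * s 1
  faith : ∀ a b κ, κ ≠ 0 → s a * z b * k κ = 1 → a = 0 ∧ b = 0 ∧ κ = 1

namespace Rel

variable {G F : Type*} [Group G] [Field F] [hc : CharP F 2] {θ : F ≃+* F} {γ : F} {s z k : F → G}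
  {t : G} (h : Rel θ γ s z k t)
include h

omit hc in
theorem z0 : z 0 = 1 := by simpa using h.zz 0 0

omit hc in
theorem s0 : s 0 = 1 := by simpa [h.z0] using h.ss 0 0

omit hc in
theorem k1 : k 1 = 1 := by simpa using h.kk 1 1 one_ne_zero one_ne_zero

omit hc in
theorem kinv {κ : F} (hκ : κ ≠ 0) : k κ⁻¹ = (k κ)⁻¹ :=
  eq_inv_of_mul_eq_one_left (by rw [← h.kk _ _ (inv_ne_zero hκ) hκ, inv_mul_cancel₀ hκ, h.k1])

omit hc in
theorem t_inv : t⁻¹ = t := inv_eq_of_mul_eq_one_right h.tt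

omit hc in
theorem tk' {κ : F} (hκ : κ ≠ 0) : t * k κ = (k κ)⁻¹ * t := by rw [h.tk κ hκ, h.kinv hκ]

omit hc in
theorem kt {κ : F} (hκ : κ ≠ 0) : k κ * t = t * (k κ)⁻¹ := by
  rw [eq_mul_inv_iff_mul_eq, mul_assoc, h.tk' hκ, mul_inv_cancel_left]

omit hc in
theorem qmul (a b c d : F) : s a * z b * (s c * z d) =
    s (a + c) * z (b + d + (θ a * c + γ * (θ a * c + a * θ c))) := by
  calc _ = s a * (z b * s c) * z d := by group
    _ = s a * s c * (z b * z d) := by rw [← h.sz]; group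
    _ = _ := by rw [h.ss, mul_assoc, ← h.zz, ← h.zz, add_comm (b + d)]

theorem qinv (a b : F) : (s a * z b)⁻¹ = s a * z (b + a * θ a) :=
  inv_eq_of_mul_eq_one_right (by
    rw [h.qmul, CharTwo.add_self_eq_zero, h.s0, one_mul, ← h.z0]; congr 1; clear * - hc; grind)

theorem sinv (a : F) : (s a)⁻¹ = s a * z (a * θ a) := by simpa [h.z0] using h.qinv a 0

omit hc in
theorem kq {κ : F} (hκ : κ ≠ 0) (a b : F) :
    k κ * (s a * z b) * (k κ)⁻¹ = s (κ * a) * z (κ * θ κ * b) := by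
  rw [← mul_assoc, h.ks _ _ hκ, mul_assoc (s _), h.kz _ _ hκ]; group

theorem q_inj {a b c d : F} (e : s a * z b = s c * z d) : a = c ∧ b = d := by
  have := h.faith _ _ 1 one_ne_zero (by
    rw [h.k1, mul_one, ← h.qmul c (d + c * θ c) a b, ← h.qinv, e, inv_mul_cancel])
  obtain rfl : c = a := CharTwo.add_eq_zero.mp this.1
  have h2 := this.2.1
  exact ⟨rfl, by clear * - hc h2; grind⟩

/-- The Borel subgroup. -/
def B : Subgroup G where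
  carrier := {g | ∃ a b κ, κ ≠ 0 ∧ g = s a * z b * k κ}
  one_mem' := ⟨0, 0, 1, one_ne_zero, by rw [h.s0, h.z0, h.k1]; simp⟩
  mul_mem' := by
    rintro _ _ ⟨a, b, κ, hκ, rfl⟩ ⟨c, d, μ, hμ, rfl⟩
    exact ⟨_, _, _, mul_ne_zero hκ hμ, by
      rw [← h.qmul a b, ← h.kq hκ c d, h.kk _ _ hκ hμ]; group⟩
  inv_mem' := by
    rintro _ ⟨a, b, κ, hκ, rfl⟩
    exact ⟨_, _, _, inv_ne_zero hκ, by
      rw [← h.kq (inv_ne_zero hκ), ← h.qinv a b, h.kinv hκ]; group⟩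

theorem q_mem (a b : F) : s a * z b ∈ h.B := ⟨a, b, 1, one_ne_zero, by rw [h.k1, mul_one]⟩

theorem s_mem (a : F) : s a ∈ h.B := by simpa [h.z0] using h.q_mem a 0

theorem z_mem (a : F) : z a ∈ h.B := by simpa [h.s0] using h.q_mem 0 a

theorem k_mem {κ : F} (hκ : κ ≠ 0) : k κ ∈ h.B := ⟨0, 0, κ, hκ, by rw [h.s0, h.z0]; simp⟩

theorem uniq (ti : ∀ a b, t * (s a * z b) * t ∈ h.B → a = 0 ∧ b = 0) {x x' : G} (hx : x ∈ h.B)
    (hx' : x' ∈ h.B) {a b c d : F} (e : x * t * (s a * z b) = x' * t * (s c * z d)) :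
    a = c ∧ b = d := by
  have e1 : t * (s c * z d * (s a * z b)⁻¹) * t = x'⁻¹ * x := by
    calc _ = x'⁻¹ * (x' * t * (s c * z d)) * (s a * z b)⁻¹ * t := by group
      _ = x'⁻¹ * x * (t * t) := by rw [← e]; group
      _ = _ := by rw [h.tt, mul_one]
  have e2 := e1 ▸ mul_mem (inv_mem hx') hx
  rw [h.qinv, h.qmul] at e2
  obtain ⟨h1, h2⟩ := ti _ _ e2
  obtain rfl : c = a := CharTwo.add_eq_zero.mp h1
  exact ⟨rfl, by clear * - hc h2; grind⟩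

omit hc in
theorem eqI {a : F} (ha : a ≠ 0) :
    t * z (a * θ a)⁻¹ * t = (s a)⁻¹ * (k a * k a) * t * s a := by
  have e1 := h.ks a 1 ha
  have e2 := h.kz a⁻¹ 1 (inv_ne_zero ha)
  rw [mul_one] at e1
  rw [mul_one, map_inv₀, ← mul_inv, h.kinv ha] at e2
  calc _ = t * (z (a * θ a)⁻¹ * (k a)⁻¹) * (k a * t) := by group
    _ = t * (k a)⁻¹ * z 1 * t * (k a)⁻¹ := by rw [← e2, h.kt ha]; group
    _ = (s a)⁻¹ * (s a * k a) * (t * z 1 * t) * (k a)⁻¹ := by rw [← h.kt ha]; group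
    _ = (s a)⁻¹ * k a * (s 1 * (t * z 1 * t)) * (k a)⁻¹ := by rw [← e1]; group
    _ = (s a)⁻¹ * k a * (t * (k a)⁻¹) * (k a * s 1) * (k a)⁻¹ := by rw [h.str]; group
    _ = _ := by rw [← h.kt ha, e1]; group

omit hc in
theorem eqII {a b e : F} (ha : a ≠ 0) (hb : b ≠ 0) (he : e ≠ 0)
    (r : (e * θ e)⁻¹ = (a * θ a)⁻¹ + (b * θ b)⁻¹) :
    t * (s a * (s b)⁻¹) * t = (k a * k a)⁻¹ * (s a * (s e)⁻¹) * (k a * k a) *
      k ((a * a)⁻¹ * (e * e) * (b * b)⁻¹) * t * ((k b * k b)⁻¹ * (s e * (s b)⁻¹) * (k b * k b)) := by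
  have e1 := h.eqI he
  rw [r, h.zz, show t * (z (a * θ a)⁻¹ * z (b * θ b)⁻¹) * t =
    t * z (a * θ a)⁻¹ * t * (t * z (b * θ b)⁻¹ * t) by
      calc _ = t * z (a * θ a)⁻¹ * (t * t) * z (b * θ b)⁻¹ * t := by rw [h.tt]; group
        _ = _ := by group, h.eqI ha, h.eqI hb] at e1
  have aa := mul_ne_zero ha ha
  have bb := mul_ne_zero hb hb
  have ee := mul_ne_zero he he
  rw [h.kk _ _ (mul_ne_zero (inv_ne_zero aa) ee) (inv_ne_zero bb), h.kk _ _ (inv_ne_zero aa) ee,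
    h.kinv aa, h.kinv bb, ← h.kk a a ha ha, ← h.kk b b hb hb]
  rw [← h.kk a a ha ha, ← h.kk b b hb hb, ← h.kk e e he he] at e1
  calc _ = (k (a * a))⁻¹ * s a * ((s a)⁻¹ * k (a * a) * t * s a * ((s b)⁻¹ * k (b * b) * t * s b)) *
        (s b)⁻¹ * t⁻¹ * (k (b * b))⁻¹ * t := by group
    _ = (k (a * a))⁻¹ * s a * (s e)⁻¹ * k (e * e) * t * s e * (s b)⁻¹ *
        (t * (k (b * b))⁻¹) * t := by rw [e1, h.t_inv]; group
    _ = (k (a * a))⁻¹ * s a * (s e)⁻¹ * k (e * e) * ((k (b * b))⁻¹ * (k (b * b) * t)) * s e *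
        (s b)⁻¹ * k (b * b) * (t * t) := by rw [← h.kt bb]; group
    _ = _ := by rw [h.tt, h.kt bb]; group

theorem eqIII {μ η : F} (hμ : μ ≠ 0) (hη : η ≠ 0) {g f : G} (hf : f ∈ h.B)
    (e : t * (s 1 * z (μ * θ μ)⁻¹) * t = g * k η * t * f) :
    ∃ x ∈ h.B, t * (s 1 * z (μ * θ μ)⁻¹) * t = x * t * (k μ * (g⁻¹ * s 1) * (k μ)⁻¹) := by
  have e1 : z 1 * (s μ)⁻¹ = k μ * (s 1 * z (μ * θ μ)⁻¹)⁻¹ * (k μ)⁻¹ := by
    have : θ μ ≠ 0 := by simpa using hμ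
    rw [h.qinv, h.kq hμ, h.sinv, ← mul_assoc, ← h.sz, mul_assoc, ← h.zz, mul_one, map_one]
    congr 2; field_simp
  have e2 : t * (s 1 * z (μ * θ μ)⁻¹)⁻¹ * t = f⁻¹ * k η * t * g⁻¹ := by
    calc _ = (t * (s 1 * z (μ * θ μ)⁻¹) * t)⁻¹ := by
          rw [mul_inv_rev _ t, mul_inv_rev t, h.t_inv]; group
      _ = f⁻¹ * (t * (k η)⁻¹) * g⁻¹ := by rw [e, mul_inv_rev, mul_inv_rev, h.t_inv]; group
      _ = _ := by rw [← h.kt hη]; group
  have e3 := h.ks μ 1 hμ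
  rw [mul_one] at e3
  refine ⟨s 1 * (k μ)⁻¹ * f⁻¹ * k η * k μ, mul_mem (mul_mem (mul_mem (mul_mem (h.s_mem 1)
    (inv_mem (h.k_mem hμ))) (inv_mem hf)) (h.k_mem hη)) (h.k_mem hμ), ?_⟩
  calc _ = t * s 1 * (t * t) * z (μ * θ μ)⁻¹ * t := by rw [h.tt]; group
    _ = s 1 * t * z 1 * (t * t) * (t * z (μ * θ μ)⁻¹ * t) := by rw [← h.str]; group
    _ = s 1 * t * (z 1 * (s μ)⁻¹) * k μ * (k μ * t) * s μ := by rw [h.tt, h.eqI hμ]; group
    _ = s 1 * (t * k μ) * (s 1 * z (μ * θ μ)⁻¹)⁻¹ * (k μ * t) * s μ := by rw [e1]; group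
    _ = s 1 * (k μ)⁻¹ * (t * (s 1 * z (μ * θ μ)⁻¹)⁻¹ * t) * (k μ)⁻¹ * (s μ * k μ) * (k μ)⁻¹ := by
      rw [h.tk' hμ, h.kt hμ]; group
    _ = s 1 * (k μ)⁻¹ * f⁻¹ * k η * k μ * ((k μ)⁻¹ * t) * g⁻¹ * s 1 * (k μ)⁻¹ := by
      rw [e2, ← e3]; group
    _ = _ := by rw [← h.tk' hμ]; group

theorem eqs (ti : ∀ a b, t * (s a * z b) * t ∈ h.B → a = 0 ∧ b = 0)
    (hN : Function.Surjective fun x => x * θ x) {p u : F} (hp : p ≠ 0) (hu : u ≠ 0)
    (r : p * θ p + u * θ u = 1) : E1 γ p (θ p) u (θ u) ∧ E2 γ p (θ p) u (θ u) := by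
  have hP : θ p ≠ 0 := by simpa using hp
  have hU : θ u ≠ 0 := by simpa using hu
  have hD : p + u ≠ 0 := fun h1 => by
    obtain rfl := CharTwo.add_eq_zero.mp h1
    exact zero_ne_one ((CharTwo.add_self_eq_zero _).symm.trans r)
  have hD' : θ p + θ u ≠ 0 := by rw [← map_add]; exact (map_ne_zero θ).mpr hD
  have hu1 : u ≠ 1 := by rintro rfl; simp [hp] at r
  have ha := div_ne_zero hu hD
  have hb := div_ne_zero hp hD
  have he := div_ne_zero (mul_ne_zero hp hu) hD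
  have e1 := h.eqII ha hb he (by
    simp only [map_div₀, map_mul, map_add]; field_simp; linear_combination -r)
  have hη := mul_ne_zero (mul_ne_zero (inv_ne_zero (mul_ne_zero ha ha)) (mul_ne_zero he he))
    (inv_ne_zero (mul_ne_zero hb hb))
  generalize (u / (p + u) * (u / (p + u)))⁻¹ * (p * u / (p + u) * (p * u / (p + u))) *
    (p / (p + u) * (p / (p + u)))⁻¹ = η at e1 hη
  have c : ∀ a b e : F, a ≠ 0 → (k a * k a)⁻¹ * (s b * (s e)⁻¹) * (k a * k a) =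
      s ((a * a)⁻¹ * (b + e)) * z ((a * a)⁻¹ * θ (a * a)⁻¹ *
        (e * θ e + (θ b * e + γ * (θ b * e + b * θ e)))) := fun a b e ha => by
    have := h.qmul b 0 e (e * θ e)
    rw [h.z0, mul_one, zero_add, ← h.sinv] at this
    rw [← h.kq (inv_ne_zero (mul_ne_zero ha ha)), ← this, h.kinv (mul_ne_zero ha ha),
      h.kk a a ha ha, inv_inv]
  have c1 := c 1 (u / (p + u)) (p / (p + u)) one_ne_zero
  rw [h.k1, mul_one, inv_one, one_mul, mul_one, mul_one, inv_one, map_one, one_mul, one_mul,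
    one_mul, ← add_div, add_comm u p, div_self hD] at c1
  rw [c _ _ _ ha, c _ _ _ hb, c1] at e1
  obtain ⟨μ, hμ⟩ := hN (p / (p + u) * θ (p / (p + u)) + (θ (u / (p + u)) * (p / (p + u)) +
    γ * (θ (u / (p + u)) * (p / (p + u)) + u / (p + u) * θ (p / (p + u)))))⁻¹
  replace hμ : (μ * θ μ)⁻¹ = _ := inv_eq_iff_eq_inv.mpr hμ
  rw [← hμ] at e1
  have μ0 : μ ≠ 0 := by
    rintro rfl
    rw [zero_mul, inv_zero, h.z0, mul_one, ← h.str] at e1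
    have e2 := (h.uniq ti (h.s_mem 1) (mul_mem (h.q_mem _ _) (h.k_mem hη)) (a := 0) (b := 1) (by
      rw [← e1, h.s0, one_mul, mul_assoc (s 1) (t * z 1 * t), mul_assoc (t * z 1), h.tt, mul_one,
        mul_assoc])).1
    field_simp at e2
    exact hu1 (by clear * - hc e2 hD; grind)
  obtain ⟨x, hx, e2⟩ := h.eqIII μ0 hη (h.q_mem _ _) e1
  rw [e1, h.qinv, ← mul_one (s 1), ← h.z0, h.qmul, h.kq μ0] at e2
  obtain ⟨e3, e4⟩ := h.uniq ti (mul_mem (h.q_mem _ _) (h.k_mem hη)) hx e2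
  have e5 := congrArg θ e3
  have hM : θ μ ≠ 0 := by simpa using μ0
  simp only [map_div₀, map_mul, map_add, map_inv₀, map_one] at e4 e5 hμ
  generalize θ p = P at *
  generalize θ u = U at *
  generalize θ μ = M at *
  field_simp at e3 e4 e5 hμ
  unfold E1 E2
  have e6 : u * (p + u) * (u + 1) * (U * (P + U) * (U + 1)) = _ := congrArg₂ (· * ·) e3 e5
  constructor <;> refine mul_left_cancel₀ (mul_ne_zero μ0 hM) ?_
  · clear * - hc e6 hμ; grind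
  · clear * - hc e4 hμ; grind

theorem swap (h0 : γ = 0) : Rel θ.symm 1 s (fun b => z (θ b)) k t where
  ss a c := by rw [h.ss, h0]; congr 2; simp; clear * - hc; grind
  zz b d := by rw [map_add, h.zz]
  sz a b := h.sz a _
  kk := h.kk
  ks := h.ks
  kz κ b hκ := by rw [h.kz κ _ hκ]; congr 2; simp [mul_comm]
  tt := h.tt
  tk := h.tk
  str := by rw [map_one, h.str]
  faith a b κ hκ e := by simpa using h.faith a _ κ hκ e

theorem exists_szRel [Fintype F] (ti : ∀ a b, t * (s a * z b) * t ∈ h.B → a = 0 ∧ b = 0)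
    (hN : Function.Surjective fun x => x * θ x) (tB : t ∉ h.B)
    (bruhat : ∀ g, g ∈ h.B ∨ ∃ x ∈ h.B, ∃ c d, g = x * t * (s c * z d)) {a : F} (a0 : a ≠ 0)
    (a1 : a ≠ 1) : ∃ (θ' : F ≃+* F) (z' : F → G), SzRel θ' s z' k t ∧ ∀ x, θ' (θ' x) = x ^ 2 := by
  have main : ∀ (θ' : F ≃+* F) (z' : F → G) (h' : Rel θ' 1 s z' k t),
      (∀ b, ∃ c, z b = z' c) → (∀ b, ∃ c, z' b = z c) → (Function.Surjective fun x => x * θ' x) →
      SzRel θ' s z' k t ∧ ∀ x, θ' (θ' x) = x ^ 2 := fun θ' z' h' h1 h2 hN' => by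
    have hB : ∀ g, g ∈ h'.B ↔ g ∈ h.B := fun g =>
      ⟨fun ⟨a, b, κ, hκ, e⟩ => (h2 b).elim fun c hc => ⟨a, c, κ, hκ, hc ▸ e⟩,
        fun ⟨a, b, κ, hκ, e⟩ => (h1 b).elim fun c hc => ⟨a, c, κ, hκ, hc ▸ e⟩⟩
    refine ⟨⟨fun a c => by rw [h'.ss]; congr 2; clear * - hc; grind, h'.zz, h'.sz, h'.kk, h'.ks,
      h'.kz, h'.tt, h'.tk, h'.str, h'.faith, fun a b κ hκ e => tB ((hB t).mp ⟨a, b, κ, hκ, e⟩),
      fun g => ?_⟩, alg_theta hN' (fun p u hp hu r => (h'.eqs (fun a b e => ?_) hN' hp hu r).2) a0 a1⟩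
    · rcases bruhat g with hg | ⟨x, hx, c, d, rfl⟩
      · exact Or.inl ((hB g).mpr hg)
      · obtain ⟨a, b, κ, hκ, rfl⟩ := (hB x).mpr hx
        obtain ⟨d', e⟩ := h1 d
        exact Or.inr ⟨a, b, κ, c, d', hκ, by rw [e]⟩
    · obtain ⟨c, hc⟩ := h2 b
      obtain ⟨rfl, rfl⟩ := ti a c (hc ▸ (hB _).mp e)
      exact ⟨rfl, (h'.q_inj (a := 0) (c := 0) (by rw [hc, h.z0, h'.z0])).2⟩
  obtain ⟨p, hp⟩ := hN a
  obtain ⟨u, hu⟩ := hN (1 + a)
  replace hp : p * θ p = a := hp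
  replace hu : u * θ u = 1 + a := hu
  rcases alg_gamma (fun p u hp hu r => (h.eqs ti hN hp hu r).1)
    (fun p u hp hu r => (h.eqs ti hN hp hu r).2) (p := p) (u := u)
    (by rintro rfl; exact a0 (by simpa using hp.symm))
    (by rintro rfl; exact a1 (CharTwo.add_eq_zero.mp (by simpa using hu.symm)).symm)
    (by rw [hp, hu, add_comm, add_assoc, CharTwo.add_self_eq_zero, add_zero]) with h0 | rfl
  · exact ⟨_, _, main _ _ (h.swap h0) (fun b => ⟨θ.symm b, by simp⟩) (fun b => ⟨_, rfl⟩) fun y => by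
      obtain ⟨x, hx⟩ := hN y
      exact ⟨θ x, by simpa [mul_comm] using hx⟩⟩
  · exact ⟨_, _, main _ _ h (fun b => ⟨b, rfl⟩) (fun b => ⟨b, rfl⟩) hN⟩

end Rel

end Cfsg.Agent.P2
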