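/-
P2: coordinates on a Zassenhaus group of odd degree with `|Q| = (|H| + 1) ^ 2`.
-/
import Cfsg.Agent.P2.Chars3
import Cfsg.Agent.P2.Rel

set_option autoImplicit false
set_option linter.unusedSectionVars false

namespace Cfsg.Agent.P2

open Subgroup Cfsg Cfsg.Agent Cfsg.Agent.FT
open scoped commutatorElement

universe u

variable {G : Type u} [Group G] [Finite G]

namespace ZT

variable {Q H : Subgroup G} {t : G}

theorem exists_rho (h : ZT Q H t) (hsq : ∀ x ∈ Q, x * x ∈ h.Z)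
    (hr : h.Z.relIndex Q = 𝐨(H) + 1) :
    ∃ ρ ∈ Q, ρ * ρ ≠ 1 ∧ t * (ρ * ρ) * t = ρ⁻¹ * t * ρ := by
  obtain ⟨s, hs, s1, hss, ρ, hρ, e⟩ := h.exists_struct
  have h2 : ρ * ρ ≠ 1 := fun h2 => by
    have h3 := h.dvd_of_three hs s1 hss (h.struct_three hs hss hρ e h2)
    rw [← H1.card_mul_relIndex h.Z_le, h.card_Z, hr, mul_assoc,
      Nat.mul_dvd_mul_iff_left (Nat.succ_pos _)] at h3
    have h4 := (Nat.Coprime.dvd_mul_left (Nat.coprime_self_add_left.mpr (Nat.coprime_one_left _) :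
      (𝐨(H) + 1 + 1).Coprime (𝐨(H) + 1))).mp h3
    rw [show (𝐨(H) + 1) * (𝐨(H) + 1) + 1 = (𝐨(H) + 2) * 𝐨(H) + 2 by ring,
      Nat.dvd_add_right (dvd_mul_right _ _)] at h4
    have := Nat.le_of_dvd two_pos h4
    have := h.three_le
    omega
  exact ⟨ρ, hρ, h2, by rw [h.struct_five hs hss hρ e h2 (h.mem_Z.mp (hsq ρ hρ)).2, e]⟩

theorem trans_mod (h : ZT Q H t) (hr : h.Z.relIndex Q = 𝐨(H) + 1) {ρ x : G} (hρ : ρ ∈ Q)
    (hρZ : ρ ∉ h.Z) (hx : x ∈ Q) (hxZ : x ∉ h.Z) : ∃ k ∈ H, (k * ρ * k⁻¹)⁻¹ * x ∈ h.Z := by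
  have nZ := le_sup_right.trans h.normZ
  let f : H × h.Z → ↥((Q : Set G) \ h.Z) := fun a => ⟨a.1 * ρ * (a.1 : G)⁻¹ * a.2,
    Q.mul_mem (H1.conj_mem_of_le_normalizer h.frob.norm a.1.2 hρ) (h.Z_le a.2.2), fun h1 => hρZ (by
      have := H1.conj_mem_of_le_normalizer' nZ a.1.2 ((h.Z.mul_mem_cancel_right a.2.2).mp h1)
      simpa [mul_assoc] using this)⟩
  have hf : Function.Injective f := by
    rintro ⟨a, z⟩ ⟨b, w⟩ e
    replace e : (a : G) * ρ * (a : G)⁻¹ * z = b * ρ * (b : G)⁻¹ * w := congrArg Subtype.val e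
    obtain rfl : a = b := by
      by_contra hne
      refine hρZ (fpf_mod h.frob.reg (g := (b : G)⁻¹ * a) (mul_mem (inv_mem b.2) a.2)
        (fun h1 => hne (Subtype.ext (inv_mul_eq_one.mp h1).symm)) h.Z_le
        (nZ (mul_mem (inv_mem b.2) a.2)) hρ ?_)
      have : ((b : G)⁻¹ * a * ρ * ((b : G)⁻¹ * a)⁻¹)⁻¹ * ρ = (b : G)⁻¹ * (z * (w : G)⁻¹) * b := by
        calc _ = (b : G)⁻¹ * (z * ((a : G) * ρ * (a : G)⁻¹ * z)⁻¹ * b * ρ) := by group
          _ = _ := by rw [e]; group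
      rw [this]
      exact H1.conj_mem_of_le_normalizer' nZ b.2 (mul_mem z.2 (inv_mem w.2))
    rw [show z = w from Subtype.ext (mul_left_cancel e)]
  have hc : Nat.card (H × h.Z) = Nat.card ↥((Q : Set G) \ h.Z) := by
    rw [Nat.card_prod, Nat.card_coe_set_eq, Set.ncard_sdiff (fun _ hx => h.Z_le hx)]
    change _ = 𝐨(Q) - 𝐨(h.Z)
    rw [← H1.card_mul_relIndex h.Z_le, hr, mul_add, mul_one, Nat.add_sub_cancel, mul_comm]
  obtain ⟨⟨a, z⟩, e⟩ := ((Nat.bijective_iff_injective_and_card f).mpr ⟨hf, hc⟩).2 ⟨x, hx, hxZ⟩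
  replace e : (a : G) * ρ * (a : G)⁻¹ * z = x := congrArg Subtype.val e
  exact ⟨a, a.2, by rw [← e, inv_mul_cancel_left]; exact z.2⟩

theorem exists_szRel (h : ZT Q H t) (hsq : ∀ x ∈ Q, x * x ∈ h.Z) (hna : ⁅Q, Q⁆ ≠ ⊥)
    (hr : h.Z.relIndex Q = 𝐨(H) + 1) (F : Type*) [Field F] [Fintype F] [hc : CharP F 2]
    (hF : Fintype.card F = 𝐨(H) + 1) :
    ∃ (θ : F ≃+* F) (s z k : F → G), SzRel θ s z k t ∧ ∀ x, θ (θ x) = x ^ 2 := by
  classical
  obtain ⟨ρ, hρ, ρ2, e⟩ := h.exists_rho hsq hr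
  have nZ := le_sup_right.trans h.normZ
  have hρZ : ρ ∉ h.Z := fun h1 => ρ2 (h.mem_Z.mp h1).2
  have hs := h.mem_Z.mp (hsq ρ hρ)
  obtain ⟨p, k, hp, pρ⟩ := exists_secField F (M := Q) (N := h.Z) (K := H) (by rw [hF, hr])
    h.frob.norm nZ (fun x hx y hy => comm_mem_of_sq_mem hsq hx hy) (le_sup_left.trans h.normZ)
    h.commH hρ hρZ (fun x hx hxZ => h.trans_mod hr hρ hρZ hx hxZ) fun g hg h1 => by
      by_contra g1
      exact hρZ (fpf_mod h.frob.reg hg g1 h.Z_le (nZ hg) hρ h1)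
  obtain ⟨φ, k', hφ, φs⟩ := exists_secField F (M := h.Z) (N := ⊥) (K := H)
    (by rw [relIndex_bot_left, h.card_Z, hF]) nZ (norm_bot (G := G) ▸ le_top)
    (fun x hx y hy => mem_bot.mpr
      (commutatorElement_eq_one_iff_commute.mpr (h.central hy.1 hy.2 hx.1)))
    (norm_bot (G := G) ▸ le_top) h.commH (e := ρ * ρ) hs ρ2
    (fun x hx x1 => by
      obtain ⟨k, hk, e⟩ := h.trans hs.1 ρ2 hs.2 hx.1 x1 hx.2
      exact ⟨k, hk, by rw [e]; simp⟩)
    (fun k hk e => by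
      by_contra k1
      exact ρ2 (fpf_mod h.frob.reg hk k1 bot_le (norm_bot (G := G) ▸ mem_top k) hs.1 e))
  choose ζ ζZ φζ using hφ.surj
  have ζφ : ∀ w ∈ h.Z, ζ (φ w) = w := fun w hw =>
    inv_mul_eq_one.mp ((hφ.eq_iff (ζZ _) hw).mp (φζ _))
  have ζinj : ∀ a b, ζ a = ζ b → a = b := fun a b e => by rw [← φζ a, e, φζ]
  have ζadd : ∀ b d, ζ (b + d) = ζ b * ζ d := fun b d => by
    rw [← ζφ _ (mul_mem (ζZ b) (ζZ d)), hφ.add _ (ζZ b) _ (ζZ d), φζ, φζ]
  let K : F → G := fun κ => if hκ : κ = 0 then 1 else k (Units.mk0 κ hκ)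
  have KH : ∀ κ, K κ ∈ H := fun κ => by
    simp only [K]; split_ifs; exacts [one_mem _, hp.mem _]
  have Ku : ∀ κ : Fˣ, K κ = k κ := fun κ => by simp [K]
  have KK : ∀ κ μ, κ ≠ 0 → μ ≠ 0 → K (κ * μ) = K κ * K μ := fun κ μ hκ hμ => by
    simp [K, hκ, hμ, ← map_mul]
  have K1 : K 1 = 1 := by simpa using Ku 1
  let s : F → G := fun a => if a = 0 then 1 else K a * ρ * (K a)⁻¹
  have sQ : ∀ a, s a ∈ Q := fun a => by
    simp only [s]; split_ifs
    exacts [one_mem _, H1.conj_mem_of_le_normalizer h.frob.norm (KH a) hρ]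
  have s0 : s 0 = 1 := if_pos rfl
  have s1 : s 1 = ρ := by simp [s, K1]
  have Ks : ∀ κ a, κ ≠ 0 → K κ * s a * (K κ)⁻¹ = s (κ * a) := fun κ a hκ => by
    by_cases ha : a = 0
    · simp [ha, s0]
    · simp only [s, if_neg ha, if_neg (mul_ne_zero hκ ha), KK κ a hκ ha]; group
  have ps : ∀ a, p (s a) = a := fun a => by
    by_cases ha : a = 0
    · rw [ha, s0, hp.one]
    · simpa [s, ha, K, pρ] using hp.conj (Units.mk0 a ha) ρ hρ
  have hQ : ∀ y ∈ Q, ∃ a b, y = s a * ζ b := fun y hy =>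
    ⟨p y, φ ((s (p y))⁻¹ * y), by
      rw [ζφ _ ((hp.eq_iff (sQ _) hy).mp (ps _)), mul_inv_cancel_left]⟩
  let β : F → F → F := fun a c => φ ((s (a + c))⁻¹ * (s a * s c))
  have ss : ∀ a c, s a * s c = s (a + c) * ζ (β a c) := fun a c => by
    rw [ζφ _ ((hp.eq_iff (sQ _) (mul_mem (sQ a) (sQ c))).mp (by
      rw [hp.add _ (sQ a) _ (sQ c), ps, ps, ps])), mul_inv_cancel_left]
  have sζ : ∀ a b, s a * ζ b = ζ b * s a := fun a b => h.central (ζZ b).1 (ζZ b).2 (sQ a)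
  have Kφ : ∀ κ, κ ≠ 0 → ∀ ν : Fˣ, k' ν = K κ → β κ κ = ν := fun κ hκ ν hν => by
    have := hφ.conj ν _ (hsq ρ hρ)
    rw [φs, mul_one, hν, ← conj_mul, ← s1, Ks κ 1 hκ, mul_one] at this
    simp only [β]
    rw [CharTwo.add_self_eq_zero, s0, inv_one, one_mul, this]
  have Kζ : ∀ κ b, κ ≠ 0 → K κ * ζ b * (K κ)⁻¹ = ζ (β κ κ * b) := fun κ b hκ => by
    obtain ⟨ν, hν⟩ := hφ.exists_eq (KH κ)
    rw [Kφ κ hκ ν hν, ← ζφ _ (H1.conj_mem_of_le_normalizer nZ (KH κ) (ζZ b)), ← hν,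
      hφ.conj ν _ (ζZ b), φζ]
  have βz : ∀ a, β 0 a = 0 := fun a => by simp [β, s0, hφ.one]
  have βc : ∀ a b c, β a b + β (a + b) c = β b c + β a (b + c) := fun a b c => by
    have := mul_assoc (s a) (s b) (s c)
    rw [ss a b, ss b c, mul_assoc, ← sζ, ← mul_assoc, ← mul_assoc, ss, ss, add_assoc, mul_assoc,
      mul_assoc, mul_right_inj, ← ζadd, ← ζadd] at this
    rw [add_comm, ζinj _ _ this, add_comm]
  have βe : ∀ κ a c, κ ≠ 0 → β (κ * a) (κ * c) = β κ κ * β a c := fun κ a c hκ => by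
    have := ss (κ * a) (κ * c)
    rw [← mul_add, ← Ks κ a hκ, ← Ks κ c hκ, conj_mul, ss, ← conj_mul, Ks κ _ hκ, Kζ κ _ hκ,
      mul_right_inj] at this
    exact (ζinj _ _ this).symm
  have hB : ∀ x y, β (x + y) (x + y) = β x x + β y y + (β x y + β y x) := fun x y => by
    have a1 := βc x y (x + y)
    have a2 := βc y y x
    rw [add_comm x y, ← add_assoc y y, CharTwo.add_self_eq_zero, zero_add, add_comm y x] at a1
    rw [CharTwo.add_self_eq_zero, βz, add_comm y x] at a2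
    clear * - hc a1 a2; grind
  obtain ⟨σ, τ, -, hN⟩ := exists_eq_mul_of_quadratic (fun a => β a a)
    (fun x y => by
      by_cases hx : x = 0
      · simp [hx, βz]
      · exact βe x y y hx) (βz 0) (fun x y => β x y + β y x) hB
    (fun x y z => by
      have a1 := βc x y z
      have a2 := βc z x y
      have a3 := βc x z y
      rw [add_comm z x] at a2
      rw [add_comm z y] at a3
      clear * - hc a1 a2 a3; grind)
    (by
      by_contra hn
      push Not at hn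
      refine hna (commutator_eq_bot_iff_le_centralizer.mpr fun x hx y hy => ?_)
      obtain ⟨a, b, rfl⟩ := hQ x hx
      obtain ⟨c, d, rfl⟩ := hQ y hy
      have c1 : Commute (s c) (s a) := by
        change s c * s a = s a * s c
        rw [ss, ss, add_comm, CharTwo.add_eq_zero.mp (hn a c)]
      exact Commute.mul_right (c1.mul_left (Commute.symm (sζ a d)))
        (h.central (ζZ b).1 (ζZ b).2 hy))
  let θ := τ.trans σ.symm
  have hθ : ∀ x, σ.symm (β x x) = x * θ x := fun x => by simp [hN, θ]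
  obtain ⟨γ, hγ⟩ := exists_coboundary_equivar (fun a c => σ.symm (β a c) + θ a * c)
    (fun a c => by
      have := congrArg σ.symm (hB a c)
      simp only [map_add, hθ] at this
      clear * - hc this; grind)
    (fun a => by rw [hθ, mul_comm, CharTwo.add_self_eq_zero]) (fun a => by simp [βz])
    (fun a b c => by
      have := congrArg σ.symm (βc a b c)
      simp only [map_add] at this ⊢
      linear_combination this) θ
    (fun κ a c hκ => by rw [βe κ a c hκ, map_mul, hθ, map_mul]; ring)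
  have R : Rel θ γ s (fun b => ζ (σ b)) K t :=
    { ss := fun a c => by
        rw [ss, ← hγ, add_comm (σ.symm _), ← add_assoc, CharTwo.add_self_eq_zero, zero_add,
          σ.apply_symm_apply]
      zz := fun b d => by rw [map_add, ζadd]
      sz := fun a b => sζ a _
      kk := KK
      ks := fun κ a hκ => by rw [← Ks κ a hκ, inv_mul_cancel_right]
      kz := fun κ b hκ => by rw [← hθ, map_mul, σ.apply_symm_apply, ← Kζ κ _ hκ, inv_mul_cancel_right]
      tt := h.tt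
      tk := fun κ hκ => by
        rw [h.t_mul (KH κ), eq_inv_of_mul_eq_one_left (a := K κ⁻¹) (b := K κ) (by
          rw [← KK _ _ (inv_ne_zero hκ) hκ, inv_mul_cancel₀ hκ, K1])]
      str := by rw [s1, map_one, ← φs, ζφ _ (hsq ρ hρ), e]; group
      faith := fun a b κ hκ e => by
        have h1 : K κ = 1 := h.eq_one (by
          rw [eq_inv_of_mul_eq_one_right e]; exact inv_mem (mul_mem (sQ a) (ζZ _).1)) (KH κ)
        rw [h1, mul_one] at e
        have h2 := hp.add _ (sQ a) _ (ζZ (σ b)).1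
        rw [e, hp.one, ps, (hp.ker _ (ζZ _).1).mpr (ζZ _), add_zero] at h2
        subst h2
        rw [s0, one_mul] at e
        refine ⟨rfl, by simpa [e, hφ.one] using (φζ (σ b)).symm, ?_⟩
        have := hp.inj (a₁ := Units.mk0 κ hκ) (a₂ := 1) (by rw [← Ku, map_one]; exact h1)
        exact congrArg Units.val this }
  have hQ' : ∀ y ∈ Q, ∃ a b, y = s a * ζ (σ b) := fun y hy => by
    obtain ⟨a, b, rfl⟩ := hQ y hy
    exact ⟨a, σ.symm b, by rw [σ.apply_symm_apply]⟩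
  have hB : ∀ g, g ∈ R.B ↔ g ∈ Q ⊔ H := fun g => by
    rw [h.mem_B]
    constructor
    · rintro ⟨a, b, κ, -, rfl⟩
      exact ⟨_, mul_mem (sQ a) (ζZ _).1, _, KH κ, rfl⟩
    · rintro ⟨y, hy, g, hg, rfl⟩
      obtain ⟨a, b, rfl⟩ := hQ' y hy
      obtain ⟨κ, rfl⟩ := hp.exists_eq hg
      exact ⟨a, b, κ, κ.ne_zero, by rw [Ku]⟩
  obtain ⟨a, -, a0, a1⟩ : ∃ a ∈ (Finset.univ : Finset F), a ≠ 0 ∧ a ≠ 1 := by
    by_contra hn
    have := Finset.card_le_card (s := Finset.univ) (t := ({0, 1} : Finset F)) fun a ha => by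
      by_contra h1
      exact hn ⟨a, ha, by simpa using h1⟩
    have := this.trans Finset.card_le_two
    have := h.three_le
    rw [Finset.card_univ] at *
    omega
  obtain ⟨θ', z', h1, h2⟩ := R.exists_szRel (fun a b hab => R.q_inj (by
      rw [h.eq_one_of_conj (mul_mem (sQ a) (ζZ _).1) ((hB _).mp hab), R.s0, R.z0, mul_one]))
    (fun y => by
      by_cases hy : y = 0
      · exact ⟨0, by simp [hy]⟩
      obtain ⟨κ, hκ⟩ := hp.exists_eq (hφ.mem (Units.mk0 (σ y) (by simpa using hy)))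
      exact ⟨κ, by simp only [← hθ]; rw [Kφ κ κ.ne_zero _ (by rw [Ku, hκ])]; simp⟩)
    (fun h1 => h.t_notMem ((hB t).mp h1))
    (fun g => (h.bruhat g).imp (hB g).mpr fun ⟨x, hx, y, hy, e⟩ => by
      obtain ⟨c, d, rfl⟩ := hQ' y hy
      exact ⟨x, (hB x).mpr hx, c, d, e⟩) a0 a1
  exact ⟨θ', s, z', K, h1, h2⟩

end ZT

end Cfsg.Agent.P2
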