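/-
P2: the Suzuki relations determine the group.
-/
import Cfsg.Agent.P2.Rel
import Cfsg.Agent.P2.Setup

set_option autoImplicit false
set_option linter.unusedSectionVars false

namespace Cfsg.Agent.P2

open Subgroup Cfsg Cfsg.Agent Cfsg.Agent.FT

theorem norm_injective {F : Type*} [Field F] {θ : F ≃+* F} (h2 : ∀ x, θ (θ x) = x ^ 2) :
    Function.Injective fun x => x * θ x := fun x y e => by
  replace e : x * θ x = y * θ y := e
  have e' := congrArg θ e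
  rw [map_mul, map_mul, h2, h2] at e'
  by_cases hy : y = 0
  · simpa [hy] using e
  refine mul_left_cancel₀ (mul_ne_zero hy ((map_ne_zero θ).mpr hy)) ?_
  linear_combination e' - x * e

namespace Rel

variable {G F : Type*} [Group G] [Field F] [hc : CharP F 2] {θ : F ≃+* F} {s z k : F → G}
  {t : G} (h : Rel θ 1 s z k t)
include h

theorem tst {a : F} (ha : a ≠ 0) : t * s a * t = (k a * k a)⁻¹ * s a * t * z (a * θ a)⁻¹ := by
  calc _ = (k a * k a)⁻¹ * s a * ((s a)⁻¹ * (k a * k a) * t * s a) * t := by group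
    _ = (k a * k a)⁻¹ * s a * t * z (a * θ a)⁻¹ * (t * t) := by rw [← h.eqI ha]; group
    _ = _ := by rw [h.tt, mul_one]

theorem exists_conj [Finite F] (h2 : ∀ x, θ (θ x) = x ^ 2) {a b : F} (hab : ¬ (a = 0 ∧ b = 0)) :
    ∃ x ∈ h.B, ∃ c d, t * (s a * z b) * t = x * t * (s c * z d) := by
  have hi := norm_injective h2
  have hN := Finite.injective_iff_surjective.mp hi
  have hinv : ∀ y, y ≠ 0 → ∃ μ, μ ≠ 0 ∧ (μ * θ μ)⁻¹ = y := fun y hy => by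
    obtain ⟨μ, hμ⟩ := hN y⁻¹
    exact ⟨μ, by rintro rfl; exact hy (by simpa using hμ.symm), inv_eq_iff_eq_inv.mpr hμ⟩
  have kq : ∀ κ, κ ≠ 0 → ∀ a b, ∃ c d, (k κ * k κ)⁻¹ * (s a * z b) * (k κ * k κ) = s c * z d :=
    fun κ hκ a b => ⟨_, _, by
      rw [← h.kq (inv_ne_zero (mul_ne_zero hκ hκ)), h.kinv (mul_ne_zero hκ hκ), h.kk κ κ hκ hκ,
        inv_inv]⟩
  have kB : ∀ κ, κ ≠ 0 → k κ * k κ ∈ h.B := fun κ hκ => mul_mem (h.k_mem hκ) (h.k_mem hκ)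
  by_cases ha : a = 0
  · obtain ⟨μ, μ0, rfl⟩ := hinv b fun hb => hab ⟨ha, hb⟩
    exact ⟨_, mul_mem (inv_mem (h.s_mem μ)) (kB μ μ0), μ, 0, by
      rw [ha, h.s0, one_mul, h.eqI μ0, h.z0, mul_one]⟩
  obtain ⟨c, rfl⟩ : ∃ c, b = a * θ c := ⟨θ.symm (b / a), by rw [θ.apply_symm_apply]; field_simp⟩
  by_cases c0 : c = 0
  · exact ⟨_, mul_mem (inv_mem (kB a ha)) (h.s_mem a), 0, (a * θ a)⁻¹, by
      rw [c0, map_zero, mul_zero, h.z0, mul_one, h.tst ha, h.s0, one_mul]⟩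
  by_cases ca : c = a
  · obtain ⟨c', d', e⟩ := kq a ha a (a * θ a)
    refine ⟨_, mul_mem (inv_mem (h.z_mem (a * θ a)⁻¹)) (inv_mem (kB a ha)), c', d', ?_⟩
    have e2 := h.tk' (mul_ne_zero ha ha)
    rw [h.kk a a ha ha] at e2
    rw [ca, ← e, ← h.sinv]
    calc _ = (t * s a * t)⁻¹ := by rw [mul_inv_rev, mul_inv_rev, h.t_inv]; group
      _ = (z (a * θ a)⁻¹)⁻¹ * (t * (k a * k a)) * ((k a * k a)⁻¹ * (s a)⁻¹ * (k a * k a)) := by
        rw [h.tst ha, mul_inv_rev _ (z _), mul_inv_rev _ t, h.t_inv]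
        generalize k a * k a = κ; group
      _ = _ := by rw [e2]; group
  have ac : a + c ≠ 0 := fun h1 => ca (CharTwo.add_eq_zero.mp h1).symm
  obtain ⟨e, e0, he⟩ := hinv (((a + c) * θ (a + c))⁻¹ + (c * θ c)⁻¹) fun h1 =>
    ha (by simpa using hi (inv_injective (CharTwo.add_eq_zero.mp h1)))
  have e1 := h.eqII ac c0 e0 he
  have e2 := fun a c => h.qmul a 0 c (c * θ c)
  simp only [h.z0, mul_one, ← h.sinv] at e2
  rw [e2, e2, e2] at e1
  obtain ⟨c', d', e3⟩ := kq c c0 (e + c) (0 + c * θ c + (θ e * c + 1 * (θ e * c + e * θ c)))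
  rw [e3] at e1
  refine ⟨_, mul_mem (mul_mem (mul_mem (inv_mem (kB _ ac)) (h.q_mem _ _)) (kB _ ac)) (h.k_mem
    (mul_ne_zero (mul_ne_zero (inv_ne_zero (mul_ne_zero ac ac)) (mul_ne_zero e0 e0))
    (inv_ne_zero (mul_ne_zero c0 c0)))), c', d', Eq.trans ?_ e1⟩
  congr 4 <;> (clear * - hc; grind)

theorem exists_mul_t {x : G} (hx : x ∈ h.B) (a b : F) :
    ∃ y ∈ h.B, ∃ c d, t * (s a * z b) * x = y * t * (s c * z d) := by
  obtain ⟨c, d, κ, hκ, e⟩ := mul_mem (h.q_mem a b) hx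
  refine ⟨_, inv_mem (h.k_mem hκ), κ⁻¹ * c, κ⁻¹ * θ κ⁻¹ * d, ?_⟩
  rw [mul_assoc t, e, ← h.kq (inv_ne_zero hκ), ← h.tk' hκ, h.kinv hκ]; group

/-- The subgroup generated by the coordinates. -/
def L [Finite F] (h2 : ∀ x, θ (θ x) = x ^ 2) : Subgroup G where
  carrier := {g | g ∈ h.B ∨ ∃ x ∈ h.B, ∃ c d, g = x * t * (s c * z d)}
  one_mem' := Or.inl (one_mem _)
  mul_mem' := by
    rintro g g' (hg | ⟨x, hx, a, b, rfl⟩) (hg' | ⟨x', hx', c, d, rfl⟩)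
    · exact Or.inl (mul_mem hg hg')
    · exact Or.inr ⟨_, mul_mem hg hx', c, d, by group⟩
    · obtain ⟨y, hy, c, d, e⟩ := h.exists_mul_t hg' a b
      exact Or.inr ⟨_, mul_mem hx hy, c, d, by rw [mul_assoc x y, mul_assoc x (y * t), ← e]; group⟩
    · obtain ⟨y, hy, a', b', e⟩ := h.exists_mul_t hx' a b
      have e1 : x * t * (s a * z b) * (x' * t * (s c * z d)) =
          x * y * (t * (s a' * z b') * t) * (s c * z d) := by
        calc _ = x * (t * (s a * z b) * x') * t * (s c * z d) := by group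
          _ = _ := by rw [e]; group
      rw [e1]
      by_cases hab : a' = 0 ∧ b' = 0
      · rw [hab.1, hab.2, h.s0, h.z0, mul_one, mul_one, h.tt, mul_one]
        exact Or.inl (mul_mem (mul_mem hx hy) (h.q_mem c d))
      · obtain ⟨w, hw, a'', b'', e2⟩ := h.exists_conj h2 hab
        exact Or.inr ⟨_, mul_mem (mul_mem hx hy) hw, _, _, by rw [e2, ← h.qmul a'' b'' c d]; group⟩
  inv_mem' := by
    rintro g (hg | ⟨x, hx, a, b, rfl⟩)
    · exact Or.inl (inv_mem hg)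
    · obtain ⟨y, hy, c, d, e⟩ := h.exists_mul_t (inv_mem hx) 0 0
      rw [h.s0, h.z0, mul_one, mul_one] at e
      exact Or.inr ⟨_, mul_mem (inv_mem (h.q_mem a b)) hy, c, d, by
        rw [mul_inv_rev, mul_inv_rev x, h.t_inv, e]; group⟩

end Rel

namespace SzRel

variable {G G' F : Type*} [Group G] [Group G'] [Field F] [hc : CharP F 2] {θ : F ≃+* F}
  {s z k : F → G} {t : G} {s' z' k' : F → G'} {t' : G'}

theorem rel (h : SzRel θ s z k t) : Rel θ 1 s z k t :=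
  ⟨fun a c => by rw [h.ss]; congr 2; clear * - hc; grind, h.zz, h.sz, h.kk, h.ks, h.kz, h.tt, h.tk,
    h.str, h.faith⟩

theorem prod (h : SzRel θ s z k t) (h' : SzRel θ s' z' k' t') :
    Rel θ 1 (fun a => (s a, s' a)) (fun a => (z a, z' a)) (fun a => (k a, k' a)) (t, t') where
  ss a c := Prod.ext (h.rel.ss a c) (h'.rel.ss a c)
  zz a c := Prod.ext (h.zz a c) (h'.zz a c)
  sz a c := Prod.ext (h.sz a c) (h'.sz a c)
  kk a c ha hc := Prod.ext (h.kk a c ha hc) (h'.kk a c ha hc)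
  ks a c ha := Prod.ext (h.ks a c ha) (h'.ks a c ha)
  kz a c ha := Prod.ext (h.kz a c ha) (h'.kz a c ha)
  tt := Prod.ext h.tt h'.tt
  tk a ha := Prod.ext (h.tk a ha) (h'.tk a ha)
  str := Prod.ext h.str h'.str
  faith a b κ hκ e := h.faith a b κ hκ (congrArg Prod.fst e)

theorem t_notMem (h : SzRel θ s z k t) : t ∉ h.rel.B := fun ⟨a, b, κ, hκ, e⟩ => h.tB a b κ hκ e

theorem bijective [Finite F] (h2 : ∀ x, θ (θ x) = x ^ 2) (h : SzRel θ s z k t)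
    (h' : Rel θ 1 s' z' k' t') (f : G' →* G) (fs : ∀ a, f (s' a) = s a) (fz : ∀ a, f (z' a) = z a)
    (fk : ∀ a, f (k' a) = k a) (ft : f t' = t) :
    Function.Bijective (f.comp (h'.L h2).subtype) := by
  constructor
  · refine (injective_iff_map_eq_one _).mpr ?_
    rintro ⟨g, ⟨a, b, κ, hκ, rfl⟩ | ⟨_, ⟨a, b, κ, hκ, rfl⟩, c, d, rfl⟩⟩ e
    · obtain ⟨rfl, rfl, rfl⟩ := h.faith a b κ hκ (by simpa [fs, fz, fk] using e)
      exact Subtype.ext (by simp [h'.s0, h'.z0, h'.k1])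
    · replace e : s a * z b * k κ * t * (s c * z d) = 1 := by simpa [fs, fz, fk, ft] using e
      refine absurd ?_ h.t_notMem
      have e1 : (s a * z b * k κ)⁻¹ * (s c * z d)⁻¹ = t := by rw [← mul_one _⁻¹, ← e]; group
      have := h.rel.B.mul_mem (inv_mem ⟨a, b, κ, hκ, rfl⟩) (inv_mem (h.rel.q_mem c d))
      rwa [e1] at this
  · intro g
    rcases h.bruhat g with ⟨a, b, κ, hκ, rfl⟩ | ⟨a, b, κ, c, d, hκ, rfl⟩
    · exact ⟨⟨_, Or.inl ⟨a, b, κ, hκ, rfl⟩⟩, by simp [fs, fz, fk]⟩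
    · exact ⟨⟨_, Or.inr ⟨_, ⟨a, b, κ, hκ, rfl⟩, c, d, rfl⟩⟩, by simp [fs, fz, fk, ft]⟩

theorem iso [Finite F] (h2 : ∀ x, θ (θ x) = x ^ 2) (h : SzRel θ s z k t)
    (h' : SzRel θ s' z' k' t') : Nonempty (G ≃* G') :=
  ⟨(MulEquiv.ofBijective _ (h.bijective h2 (h.prod h') (MonoidHom.fst G G') (fun _ => rfl)
    (fun _ => rfl) (fun _ => rfl) rfl)).symm.trans (MulEquiv.ofBijective _
    (h'.bijective h2 (h.prod h') (MonoidHom.snd G G') (fun _ => rfl) (fun _ => rfl)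
      (fun _ => rfl) rfl))⟩

theorem map (h : SzRel θ s z k t) (e : G ≃* G') :
    SzRel θ (fun a => e (s a)) (fun a => e (z a)) (fun a => e (k a)) (e t) where
  ss a c := by simp only [← map_mul, h.ss]
  zz a c := by simp only [← map_mul, h.zz]
  sz a c := by simp only [← map_mul, h.sz]
  kk a c ha hc := by simp only [← map_mul, h.kk a c ha hc]
  ks a c ha := by simp only [← map_mul, h.ks a c ha]
  kz a c ha := by simp only [← map_mul e, h.kz a c ha]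
  tt := by rw [← map_mul, h.tt, map_one]
  tk a ha := by simp only [← map_mul, h.tk a ha]
  str := by simp only [← map_mul, h.str]
  faith a b κ hκ e1 := h.faith a b κ hκ (e.injective (by simpa using e1))
  tB a b κ hκ e1 := h.tB a b κ hκ (e.injective (by simpa using e1))
  bruhat g := by
    obtain ⟨g, rfl⟩ := e.surjective g
    rcases h.bruhat g with ⟨a, b, κ, hκ, rfl⟩ | ⟨a, b, κ, c, d, hκ, rfl⟩
    · exact Or.inl ⟨a, b, κ, hκ, by simp⟩
    · exact Or.inr ⟨a, b, κ, c, d, hκ, by simp⟩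

/-- The Sylow `2`-subgroup of the coordinates. -/
def Q (h : SzRel θ s z k t) : Subgroup G where
  carrier := {g | ∃ a b, g = s a * z b}
  one_mem' := ⟨0, 0, by rw [h.rel.s0, h.rel.z0, mul_one]⟩
  mul_mem' := by
    rintro _ _ ⟨a, b, rfl⟩ ⟨c, d, rfl⟩
    exact ⟨_, _, h.rel.qmul a b c d⟩
  inv_mem' := by
    rintro _ ⟨a, b, rfl⟩
    exact ⟨_, _, h.rel.qinv a b⟩

/-- The split torus of the coordinates. -/
def K (h : SzRel θ s z k t) : Subgroup G where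
  carrier := {g | ∃ κ, κ ≠ 0 ∧ g = k κ}
  one_mem' := ⟨1, one_ne_zero, h.rel.k1.symm⟩
  mul_mem' := by
    rintro _ _ ⟨a, ha, rfl⟩ ⟨c, hc, rfl⟩
    exact ⟨_, mul_ne_zero ha hc, (h.kk a c ha hc).symm⟩
  inv_mem' := by
    rintro _ ⟨a, ha, rfl⟩
    exact ⟨_, inv_ne_zero ha, (h.rel.kinv ha).symm⟩

theorem card_Q (h : SzRel θ s z k t) : 𝐨(h.Q) = Nat.card F ^ 2 := by
  rw [sq, ← Nat.card_prod]
  refine (Nat.card_eq_of_bijective (fun a : F × F => (⟨s a.1 * z a.2, _, _, rfl⟩ : h.Q))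
    ⟨fun a b e => ?_, ?_⟩).symm
  · exact Prod.ext_iff.mpr (h.rel.q_inj (congrArg Subtype.val e))
  · rintro ⟨_, a, b, rfl⟩; exact ⟨(a, b), rfl⟩

theorem k_eq_one (h : SzRel θ s z k t) {κ : F} (hκ : κ ≠ 0) (e : k κ = 1) : κ = 1 :=
  (h.faith 0 0 κ hκ (by rw [h.rel.s0, h.rel.z0, e]; simp)).2.2

theorem card_K [Finite F] (h : SzRel θ s z k t) : 𝐨(h.K) = Nat.card F - 1 := by
  rw [← Nat.card_units]
  refine (Nat.card_eq_of_bijective (fun a : Fˣ => (⟨k a, _, a.ne_zero, rfl⟩ : h.K))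
    ⟨fun a b e => ?_, ?_⟩).symm
  · replace e : k a = k b := congrArg Subtype.val e
    have := h.k_eq_one (mul_ne_zero a.ne_zero (inv_ne_zero b.ne_zero)) (by
      rw [h.kk _ _ a.ne_zero (inv_ne_zero b.ne_zero), h.rel.kinv b.ne_zero, e, mul_inv_cancel])
    exact Units.ext ((mul_inv_eq_one₀ b.ne_zero).mp this)
  · rintro ⟨_, a, ha, rfl⟩; exact ⟨Units.mk0 a ha, rfl⟩

theorem finite [Finite F] (h : SzRel θ s z k t) : Finite G := by
  refine Finite.of_surjective (fun a : (F × F × F) × Option (F × F) =>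
    s a.1.1 * z a.1.2.1 * k a.1.2.2 * a.2.elim 1 fun c => t * (s c.1 * z c.2)) fun g => ?_
  rcases h.bruhat g with ⟨a, b, κ, -, rfl⟩ | ⟨a, b, κ, c, d, -, rfl⟩
  · exact ⟨((a, b, κ), none), by simp⟩
  · exact ⟨((a, b, κ), some (c, d)), by simp [mul_assoc]⟩

theorem zt [Finite F] (h2 : ∀ x, θ (θ x) = x ^ 2) (hF : 2 < Nat.card F) (h : SzRel θ s z k t) :
    ZT h.Q h.K t := by
  have := h.finite
  have hn : h.K ≤ 𝐍(h.Q) := by
    rw [le_normalizer_iff]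
    rintro _ ⟨κ, hκ, rfl⟩ _ ⟨a, b, rfl⟩
    exact ⟨_, _, h.rel.kq hκ a b⟩
  have hB : ∀ g, g ∈ h.Q ⊔ h.K ↔ g ∈ h.rel.B := fun g => by
    rw [mem_sup_of_norm hn]
    exact ⟨fun ⟨_, ⟨a, b, e⟩, _, ⟨κ, hκ, e'⟩, e''⟩ => ⟨a, b, κ, hκ, by rw [← e'', e, e']⟩,
      fun ⟨a, b, κ, hκ, e⟩ => ⟨_, ⟨a, b, rfl⟩, _, ⟨κ, hκ, rfl⟩, e.symm⟩⟩
  have tK : ∀ g ∈ h.K, t * g * t ∈ h.K := by
    rintro _ ⟨κ, hκ, rfl⟩
    exact ⟨_, inv_ne_zero hκ, by rw [h.tk κ hκ, mul_assoc, h.tt, mul_one]⟩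
  refine ⟨⟨?_, ?_, hn, semiReg_iff.mpr ?_⟩, ?_, h.tt, ?_, fun g => ?_, fun x hx ht => ?_⟩
  · rw [← one_lt_card_iff_ne_bot, h.card_Q]; nlinarith
  · rw [← one_lt_card_iff_ne_bot, h.card_K]; omega
  · rintro _ ⟨κ, hκ, rfl⟩ h1 _ ⟨a, b, rfl⟩ e
    have κ1 : κ ≠ 1 := fun h3 => h1 (by rw [h3, h.rel.k1])
    obtain ⟨e1, e2⟩ := h.rel.q_inj ((h.rel.kq hκ a b).symm.trans (mul_inv_eq_iff_eq_mul.mpr e))
    rw [(mul_left_eq_self₀.mp e1).resolve_left κ1, (mul_left_eq_self₀.mp e2).resolve_left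
      fun h3 => κ1 (norm_injective h2 (by simpa using h3)), h.rel.s0, h.rel.z0, mul_one]
  · have := Fintype.ofFinite F
    obtain ⟨n, -, hn⟩ := FiniteField.card F 2
    rw [h.card_Q, Nat.card_eq_fintype_card, hn]
    exact (Nat.even_pow.mpr ⟨even_two, n.ne_zero⟩).pow_of_ne_zero two_ne_zero
  · exact mem_normalizer_fintype fun g hg => by rw [h.rel.t_inv]; exact tK g hg
  · rcases h.bruhat g with hg | ⟨a, b, κ, c, d, hκ, rfl⟩
    · exact Or.inl ((hB g).mpr hg)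
    · exact Or.inr ⟨_, (hB _).mpr ⟨a, b, κ, hκ, rfl⟩, _, ⟨c, d, rfl⟩, rfl⟩
  · obtain ⟨a, b, κ, hκ, rfl⟩ := (hB x).mp hx
    by_cases hab : a = 0 ∧ b = 0
    · rw [hab.1, hab.2, h.rel.s0, h.rel.z0, one_mul, one_mul]; exact ⟨κ, hκ, rfl⟩
    obtain ⟨y, hy, c, d, e⟩ := h.rel.exists_conj h2 hab
    refine absurd ?_ h.t_notMem
    have e1 : t = y⁻¹ * (t * (s a * z b * k κ) * t * k κ) * (s c * z d)⁻¹ := by
      calc t = y⁻¹ * (t * (s a * z b) * t) * (s c * z d)⁻¹ := by rw [e]; group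
        _ = y⁻¹ * (t * (s a * z b) * k κ * ((k κ)⁻¹ * t)) * (s c * z d)⁻¹ := by group
        _ = _ := by rw [← h.rel.tk' hκ]; group
    have := mul_mem (mul_mem (inv_mem hy) (mul_mem ((hB _).mp ht) (h.rel.k_mem hκ)))
      (inv_mem (h.rel.q_mem c d))
    rwa [← e1] at this

end SzRel

end Cfsg.Agent.P2
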