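/-
P2: the matrix group `Lie.Sz` satisfies the Suzuki relations.
-/
import Cfsg.Prelude.Def_Sz
import Cfsg.Agent.P2.SzIso

set_option autoImplicit false
set_option linter.unusedSectionVars false

namespace Cfsg.Agent.P2

open Cfsg Matrix

theorem Rel.szRel_subtype {G F : Type*} [Group G] [Field F] [hc : CharP F 2] [Finite F]
    {θ : F ≃+* F} {s z k : F → G} {t : G} (h : Rel θ 1 s z k t) (h2 : ∀ x, θ (θ x) = x ^ 2)
    (tB : t ∉ h.B) (k0 : k 0 = 1) {S : Subgroup G} (hS : S = h.L h2) :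
    ∃ (s' z' k' : F → S) (t' : S), SzRel θ s' z' k' t' := by
  subst hS
  refine ⟨fun a => ⟨s a, Or.inl (h.s_mem a)⟩, fun a => ⟨z a, Or.inl (h.z_mem a)⟩,
    fun a => ⟨k a, Or.inl ((eq_or_ne a 0).elim (fun ha => by rw [ha, k0]; exact one_mem _) h.k_mem)⟩,
    ⟨t, Or.inr ⟨1, one_mem _, 0, 0, by simp [h.s0, h.z0]⟩⟩,
    fun a c => Subtype.ext ((h.ss a c).trans (by
      change _ = s (a + c) * z (a * θ c); congr 2; clear * - hc; grind)),
    fun a c => Subtype.ext (h.zz a c), fun a c => Subtype.ext (h.sz a c),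
    fun a c ha hc => Subtype.ext (h.kk a c ha hc), fun a c ha => Subtype.ext (h.ks a c ha),
    fun a c ha => Subtype.ext (h.kz a c ha), Subtype.ext h.tt, fun a ha => Subtype.ext (h.tk a ha),
    Subtype.ext h.str, fun a b κ hκ e => h.faith a b κ hκ (congrArg Subtype.val e),
    fun a b κ hκ e => tB ⟨a, b, κ, hκ, congrArg Subtype.val e⟩, ?_⟩
  rintro ⟨g, ⟨a, b, κ, hκ, rfl⟩ | ⟨_, ⟨a, b, κ, hκ, rfl⟩, c, d, rfl⟩⟩
  · exact Or.inl ⟨a, b, κ, hκ, rfl⟩
  · exact Or.inr ⟨a, b, κ, c, d, hκ, rfl⟩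

namespace Model

variable {F : Type*} [Field F] [hc : CharP F 2]

theorem p0 : Lie.pairOf 0 = (0, 1) := rfl
theorem p1 : Lie.pairOf 1 = (0, 2) := rfl
theorem p2 : Lie.pairOf 2 = (1, 3) := rfl
theorem p3 : Lie.pairOf 3 = (2, 3) := rfl

theorem star4_eq (g : Matrix (Fin 4) (Fin 4) F) : Lie.star4 g =
    !![g 0 0 * g 1 1 - g 1 0 * g 0 1,
      g 0 0 * g 1 2 - g 1 0 * g 0 2,
      g 0 1 * g 1 3 - g 1 1 * g 0 3,
      g 0 2 * g 1 3 - g 1 2 * g 0 3;
      g 0 0 * g 2 1 - g 2 0 * g 0 1,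
      g 0 0 * g 2 2 - g 2 0 * g 0 2,
      g 0 1 * g 2 3 - g 2 1 * g 0 3,
      g 0 2 * g 2 3 - g 2 2 * g 0 3;
      g 1 0 * g 3 1 - g 3 0 * g 1 1,
      g 1 0 * g 3 2 - g 3 0 * g 1 2,
      g 1 1 * g 3 3 - g 3 1 * g 1 3,
      g 1 2 * g 3 3 - g 3 2 * g 1 3;
      g 2 0 * g 3 1 - g 3 0 * g 2 1,
      g 2 0 * g 3 2 - g 3 0 * g 2 2,
      g 2 1 * g 3 3 - g 3 1 * g 2 3,
      g 2 2 * g 3 3 - g 3 2 * g 2 3] := by
  ext i j
  fin_cases i <;> fin_cases j <;> rfl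

theorem star4_one : Lie.star4 (1 : Matrix (Fin 4) (Fin 4) F) = 1 := by
  rw [star4_eq]
  ext i j
  fin_cases i <;> fin_cases j <;> simp

/-- The Gram matrix. -/
def J (F : Type*) [Field F] : Matrix (Fin 4) (Fin 4) F := !![0,0,0,1; 0,0,1,0; 0,1,0,0; 1,0,0,0]

theorem JJ : J F * J F = 1 := by
  ext i j
  fin_cases i <;> fin_cases j <;> simp [J, Matrix.mul_apply, Fin.sum_univ_four]

theorem J_apply (g h : Matrix (Fin 4) (Fin 4) F) (i j : Fin 4) : (g * J F * h) i j =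
    g i 0 * h 3 j + g i 1 * h 2 j + g i 2 * h 1 j + g i 3 * h 0 j := by
  simp [J, Matrix.mul_apply, Fin.sum_univ_four]; ring

theorem inv_left {g : Matrix (Fin 4) (Fin 4) F} (h : gᵀ * J F * g = J F) :
    J F * gᵀ * J F * g = 1 := by rw [mul_assoc, mul_assoc, ← mul_assoc gᵀ, h, JJ]

theorem rows {g : Matrix (Fin 4) (Fin 4) F} (h : gᵀ * J F * g = J F) : g * J F * gᵀ = J F := by
  have := mul_eq_one_comm.mp (inv_left h)
  calc _ = g * (J F * gᵀ * J F) * J F := by rw [mul_assoc, mul_assoc, mul_assoc, mul_assoc, JJ, mul_one]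
    _ = _ := by rw [this, one_mul]

/-- A symplectic matrix as an element of `GL₄`. -/
def mk (g : Matrix (Fin 4) (Fin 4) F) (h : gᵀ * J F * g = J F) : GL (Fin 4) F :=
  ⟨g, J F * gᵀ * J F, mul_eq_one_comm.mp (inv_left h), inv_left h⟩

theorem mem_Sp4 {g : GL (Fin 4) F} : g ∈ Lie.Sp4 F ↔ g.valᵀ * J F * g.val = J F := by
  have e : ∀ u v : Fin 4 → F, Lie.altForm4 u v = u ⬝ᵥ J F *ᵥ v := fun u v => by
    simp [Lie.altForm4, J, dotProduct, mulVec, Fin.sum_univ_four]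
  change (∀ u v, Lie.altForm4 (g.val *ᵥ u) (g.val *ᵥ v) = Lie.altForm4 u v) ↔ _
  have e2 : ∀ u v, Lie.altForm4 (g.val *ᵥ u) (g.val *ᵥ v) = u ⬝ᵥ (g.valᵀ * J F * g.val) *ᵥ v :=
    fun u v => by
      rw [e, ← mulVec_mulVec, ← mulVec_mulVec, dotProduct_mulVec u, vecMul_transpose]
  simp only [e2, e]
  refine ⟨fun h => ?_, fun h u v => by rw [h]⟩
  ext i j
  simpa using h (Pi.single i 1) (Pi.single j 1)

theorem star4_mul {g h : Matrix (Fin 4) (Fin 4) F} (hg : gᵀ * J F * g = J F)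
    (hh : hᵀ * J F * h = J F) : Lie.star4 (g * h) = Lie.star4 g * Lie.star4 h := by
  ext p r
  have a : (g * J F * gᵀ) (Lie.pairOf p).1 (Lie.pairOf p).2 = 0 := by
    rw [rows hg]; fin_cases p <;> rfl
  have b : (hᵀ * J F * h) (Lie.pairOf r).1 (Lie.pairOf r).2 = 0 := by
    rw [hh]; fin_cases r <;> rfl
  rw [J_apply] at a b
  simp only [transpose_apply] at a b
  simp only [Lie.star4, mul_apply, of_apply, Fin.sum_univ_four]
  generalize (Lie.pairOf p).1 = k at a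
  generalize (Lie.pairOf p).2 = l at a
  generalize (Lie.pairOf r).1 = i at b
  generalize (Lie.pairOf r).2 = j at b
  simp only [p0, p1, p2, p3]
  clear * - hc a b
  grind

variable (θ : F ≃+* F)

/-- The defining property of the Suzuki group. -/
def S : Subgroup (GL (Fin 4) F) where
  carrier := {g | g.valᵀ * J F * g.val = J F ∧ Lie.star4 g.val = g.val.map θ}
  one_mem' := ⟨by simp, by simp [star4_one]⟩
  mul_mem' := by
    rintro g h ⟨g1, g2⟩ ⟨h1, h2⟩
    exact ⟨mem_Sp4.mp (mul_mem (mem_Sp4.mpr g1) (mem_Sp4.mpr h1)), by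
      rw [Units.val_mul, star4_mul g1 h1, g2, h2, Matrix.map_mul]⟩
  inv_mem' := by
    rintro g ⟨g1, g2⟩
    have h1 := mem_Sp4.mp (inv_mem (mem_Sp4.mpr g1))
    refine ⟨h1, ?_⟩
    have h2 := star4_mul g1 h1
    rw [Units.mul_inv, g2, star4_one] at h2
    calc _ = (g⁻¹.val * g.val).map θ * Lie.star4 g⁻¹.val := by simp
      _ = _ := by rw [Matrix.map_mul, mul_assoc, ← h2, mul_one]

/-- The unipotent elements. -/
def u (x y : F) : GL (Fin 4) F :=
  mk !![1,0,0,0; x,1,0,0; y, θ x,1,0; θ y + x ^ 2 * θ x + x * y, x * θ x + y, x, 1] (by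
    ext i j
    rw [J_apply]
    fin_cases i <;> fin_cases j <;> simp [J] <;> grind)

/-- The diagonal elements. -/
def d {b : F} (hb : b ≠ 0) : GL (Fin 4) F :=
  mk !![b * θ b,0,0,0; 0,b,0,0; 0,0,b⁻¹,0; 0,0,0,(b * θ b)⁻¹] (by
    have : θ b ≠ 0 := by simpa using hb
    ext i j
    rw [J_apply]
    fin_cases i <;> fin_cases j <;> simp [J, hb] <;> field_simp)

open Classical in
/-- The torus. -/
noncomputable def k (κ : F) : GL (Fin 4) F :=
  if h : κ = 0 then 1 else d θ (b := θ.symm κ⁻¹) (by simpa using h)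

/-- The Weyl element. -/
def t (F : Type*) [Field F] [CharP F 2] : GL (Fin 4) F := mk (J F) (by
  ext i j
  rw [J_apply]
  fin_cases i <;> fin_cases j <;> simp [J])

variable {θ} (h2 : ∀ x, θ (θ x) = x ^ 2)
include h2

theorem u_mul (x y x' y' : F) : u θ x y * u θ x' y' = u θ (x + x') (y + y' + θ x * x') := by
  ext i j
  fin_cases i <;> fin_cases j <;> simp [u, mk, mul_apply, Fin.sum_univ_four, h2] <;> grind

theorem k_u {κ : F} (hκ : κ ≠ 0) (x y : F) :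
    k θ κ * u θ x y = u θ (κ * x) (κ * θ κ * y) * k θ κ := by
  obtain ⟨b, rfl⟩ : ∃ b, κ = (θ b)⁻¹ := ⟨θ.symm κ⁻¹, by simp⟩
  have hb : b ≠ 0 := by simpa using hκ
  have hb' : θ b ≠ 0 := by simpa using hκ
  rw [k, dif_neg hκ]
  ext i j
  fin_cases i <;> fin_cases j <;> simp [u, d, mk, mul_apply, Fin.sum_univ_four, h2] <;> field_simp

theorem rel : Rel θ 1 (fun a => u θ a (a * θ a)) (u θ 0) (k θ) (t F) where
  ss a c := by simp only [u_mul h2, map_add]; congr 1 <;> grind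
  zz b d := by simp [u_mul h2]
  sz a b := by simp [u_mul h2, add_comm]
  kk κ μ hκ hμ := by
    rw [k, k, k, dif_neg hκ, dif_neg hμ, dif_neg (mul_ne_zero hκ hμ)]
    ext i j
    fin_cases i <;> fin_cases j <;> simp [d, mk, mul_apply, Fin.sum_univ_four] <;> ring
  ks κ a hκ := by rw [k_u h2 hκ, map_mul, mul_mul_mul_comm]
  kz κ a hκ := by rw [k_u h2 hκ, mul_zero]
  tt := Units.ext JJ
  tk κ hκ := by
    rw [k, k, dif_neg hκ, dif_neg (inv_ne_zero hκ)]
    ext i j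
    fin_cases i <;> fin_cases j <;> simp [d, t, J, mk, mul_apply, Fin.sum_univ_four] <;> ring
  str := by
    ext i j
    fin_cases i <;> fin_cases j <;> simp [u, t, J, mk, mul_apply, Fin.sum_univ_four] <;> grind
  faith a b κ hκ e := by
    rw [u_mul h2, k, dif_neg hκ] at e
    have e1 := congrArg (fun g : GL (Fin 4) F => g.val 1 1) e
    have e2 := congrArg (fun g : GL (Fin 4) F => g.val 1 0) e
    have e3 := congrArg (fun g : GL (Fin 4) F => g.val 2 0) e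
    simp [u, d, mk, mul_apply, Fin.sum_univ_four, hκ] at e1 e2 e3
    exact ⟨e2, by simpa [e2] using e3, e1⟩

theorem t_notMem : t F ∉ (rel h2).B := by
  rintro ⟨a, b, κ, hκ, e⟩
  rw [u_mul h2, k, dif_neg hκ] at e
  have e1 := congrArg (fun g : GL (Fin 4) F => g.val 0 3) e
  simp [u, d, t, J, mk, mul_apply, Fin.sum_univ_four] at e1

theorem u_mem (x y : F) : u θ x y ∈ S θ := ⟨by
    ext i j
    rw [J_apply]
    fin_cases i <;> fin_cases j <;> simp [J, u, mk] <;> grind, by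
  ext i j
  fin_cases i <;> fin_cases j <;> simp [u, mk, star4_eq, h2] <;> grind⟩

theorem k_mem (κ : F) : k θ κ ∈ S θ := by
  by_cases hκ : κ = 0
  · rw [k, dif_pos hκ]; exact one_mem _
  obtain ⟨b, rfl⟩ : ∃ b, κ = (θ b)⁻¹ := ⟨θ.symm κ⁻¹, by simp⟩
  have hb : b ≠ 0 := by simpa using hκ
  have hb' : θ b ≠ 0 := by simpa using hκ
  rw [k, dif_neg hκ]
  constructor
  · ext i j
    rw [J_apply]
    fin_cases i <;> fin_cases j <;> simp [J, d, mk, hb] <;> field_simp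
  · ext i j
    fin_cases i <;> fin_cases j <;> simp [d, mk, star4_eq, h2] <;> field_simp

omit h2 in
theorem t_mem : t F ∈ S θ := by
  constructor
  · ext i j
    rw [J_apply]
    fin_cases i <;> fin_cases j <;> simp [J, t, mk]
  · ext i j
    fin_cases i <;> fin_cases j <;> simp [J, t, mk, star4_eq, CharTwo.neg_eq]

theorem u_memB (x y : F) : u θ x y ∈ (rel h2).B := by
  have := (rel h2).q_mem x (y + x * θ x)
  rw [u_mul h2] at this
  convert this using 2 <;> grind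

omit h2 in
theorem sp {g : GL (Fin 4) F} (hg : g ∈ S θ) (i j : Fin 4) :
    g.val 0 i * g.val 3 j + g.val 1 i * g.val 2 j + g.val 2 i * g.val 1 j + g.val 3 i * g.val 0 j =
      J F i j := by
  rw [← hg.1, J_apply]; rfl

omit h2 in
theorem st {g : GL (Fin 4) F} (hg : g ∈ S θ) (p r : Fin 4) :
    Lie.star4 g.val p r = θ (g.val p r) := congrFun (congrFun hg.2 p) r

theorem mem_of_diag {g : GL (Fin 4) F} (hg : g ∈ S θ) (h10 : g.val 1 0 = 0) (h20 : g.val 2 0 = 0)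
    (h30 : g.val 3 0 = 0) (h03 : g.val 0 3 = 0) (h13 : g.val 1 3 = 0) (h23 : g.val 2 3 = 0) :
    g ∈ (rel h2).B := by
  have a03 := sp hg 0 3
  have a01 := sp hg 0 1
  have a02 := sp hg 0 2
  have a31 := sp hg 3 1
  have a32 := sp hg 3 2
  have a12 := sp hg 1 2
  have b10 := st hg 1 0
  have b01 := st hg 0 1
  have b11 := st hg 1 1
  simp [J, star4_eq, h10, h20, h30, h03, h13, h23] at a03 a01 a02 a31 a32 a12 b10 b01 b11
  have h00 : g.val 0 0 ≠ 0 := left_ne_zero_of_mul_eq_one a03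
  have h33 : g.val 3 3 ≠ 0 := right_ne_zero_of_mul_eq_one a03
  simp [h00, h33] at a01 a02 a31 a32 b10
  simp [a01, a02, a31, a32, b10, h00] at a12 b01
  have h11 : g.val 1 1 ≠ 0 := left_ne_zero_of_mul_eq_one a12
  have hκ : (θ (g.val 1 1))⁻¹ ≠ 0 := by simpa using h11
  have e22 := eq_inv_of_mul_eq_one_right a12
  have e33 := eq_inv_of_mul_eq_one_right a03
  have e00 : g.val 0 0 = g.val 1 1 * θ (g.val 1 1) := by rw [← b11, e22]; field_simp
  convert (rel h2).k_mem hκ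
  rw [k, dif_neg hκ]
  ext i j
  fin_cases i <;> fin_cases j <;> simp [d, mk, *]

omit h2 in
theorem col {g : GL (Fin 4) F} (hg : g ∈ S θ) :
    (g.val 0 0 = 0 → g.val 1 0 = 0 ∧ g.val 2 0 = 0) ∧ (g.val 0 0 ≠ 0 → ∃ x y,
      (u θ x y * g).val 1 0 = 0 ∧ (u θ x y * g).val 2 0 = 0) := by
  have a := sp hg 0 1
  have b0 := st hg 0 0
  have b1 := st hg 1 0
  have b2 := st hg 2 0
  simp [J, star4_eq] at a b0 b1 b2
  refine ⟨fun h0 => ?_, fun h0 => ⟨g.val 1 0 / g.val 0 0, (g.val 2 0 +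
    θ (g.val 1 0 / g.val 0 0) * g.val 1 0) / g.val 0 0, ?_, ?_⟩⟩
  · rw [h0, map_zero] at b0
    rw [h0] at a b1
    have h1 : g.val 1 0 = 0 := by
      have : g.val 1 0 * θ (g.val 1 0) = 0 := by clear * - hc a b0 b1; grind
      simpa using this
    rw [h1, map_zero] at b1
    rw [h1] at a b2
    have : g.val 2 0 * θ (g.val 2 0) = 0 := by clear * - hc a b1 b2; grind
    exact ⟨h1, by simpa using this⟩
  · simp [u, mk, mul_apply, Fin.sum_univ_four]; field_simp; grind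
  · simp [u, mk, mul_apply, Fin.sum_univ_four]; field_simp; grind

omit h2 in
theorem col' {g : GL (Fin 4) F} (hg : g ∈ S θ) (h0 : g.val 0 0 ≠ 0) (h1 : g.val 1 0 = 0)
    (h2 : g.val 2 0 = 0) : g.val 3 0 = 0 := by
  have b0 := st hg 0 0
  have b2 := st hg 2 0
  simp [star4_eq, h1, h2] at b0 b2
  exact b2.resolve_right fun h => h0 (by simpa [h] using b0.symm)

theorem mem_of_fix {g : GL (Fin 4) F} (hg : g ∈ S θ) (h03 : g.val 0 3 = 0) (h13 : g.val 1 3 = 0)
    (h23 : g.val 2 3 = 0) : g ∈ (rel h2).B := by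
  have a03 := sp hg 0 3
  simp [J, h03, h13, h23] at a03
  have h00 : g.val 0 0 ≠ 0 := left_ne_zero_of_mul_eq_one a03
  obtain ⟨x, y, e1, e2⟩ := (col hg).2 h00
  have hg' := mul_mem (u_mem h2 x y) hg
  refine (Subgroup.mul_mem_cancel_left _ (u_memB h2 x y)).mp (mem_of_diag h2 hg' e1 e2
    (col' hg' ?_ e1 e2) ?_ ?_ ?_) <;> simp [u, mk, mul_apply, Fin.sum_univ_four, *]

theorem S_eq [Finite F] : S θ = (rel h2).L h2 := by
  have hB : ∀ g ∈ (rel h2).B, g ∈ S θ := by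
    rintro _ ⟨a, b, κ, -, rfl⟩
    exact mul_mem (mul_mem (u_mem h2 _ _) (u_mem h2 _ _)) (k_mem h2 κ)
  have ht : t F ∈ (rel h2).L h2 := Or.inr ⟨1, one_mem _, 0, 0, by simp [(rel h2).z0]⟩
  refine le_antisymm (fun g hg => ?_) ?_
  · have hg' := mul_mem hg t_mem
    have e : ∀ i, (g * t F).val i 0 = g.val i 3 := fun i => by
      simp [t, J, mk, mul_apply, Fin.sum_univ_four]
    by_cases h0 : g.val 0 3 = 0
    · have := (col hg').1 (by rw [e, h0])
      rw [e, e] at this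
      exact Or.inl (mem_of_fix h2 hg h0 this.1 this.2)
    obtain ⟨x, y, e1, e2⟩ := (col hg').2 (by rwa [e])
    have e3 := col' (mul_mem (u_mem h2 x y) hg') (by
      simpa [u, t, J, mk, mul_apply, Fin.sum_univ_four] using h0) e1 e2
    refine (Subgroup.mul_mem_cancel_left _ (mul_mem ht (Or.inl (u_memB h2 x y)))).mp (Or.inl
      (mem_of_fix h2 (mul_mem (mul_mem t_mem (u_mem h2 x y)) hg) ?_ ?_ ?_))
    · simpa [u, t, J, mk, mul_apply, Fin.sum_univ_four] using e3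
    · simpa [u, t, J, mk, mul_apply, Fin.sum_univ_four] using e2
    · simpa [u, t, J, mk, mul_apply, Fin.sum_univ_four] using e1
  · rintro g (hg | ⟨x, hx, c, d, rfl⟩)
    · exact hB g hg
    · exact mul_mem (mul_mem (hB x hx) t_mem) (hB _ ((rel h2).q_mem c d))

omit h2 in
theorem Sz_eq {e : ℕ} (hθ : ∀ x, θ x = x ^ e) : Lie.Sz F e = S θ := by
  rw [Lie.Sz, ← Subgroup.closure_eq (S θ)]
  congr 1
  ext g
  rw [Set.mem_ofPred_eq, mem_Sp4, ← funext hθ]
  rfl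

end Model

theorem sz_rel {F : Type*} [Field F] [Finite F] [CharP F 2] {e : ℕ} {θ : F ≃+* F}
    (hθ : ∀ x, θ x = x ^ e) (h2 : ∀ x, θ (θ x) = x ^ 2) :
    ∃ (s z k : F → Lie.Sz F e) (t : Lie.Sz F e), SzRel θ s z k t :=
  (Model.rel h2).szRel_subtype h2 (Model.t_notMem h2) (dif_pos rfl)
    ((Model.Sz_eq hθ).trans (Model.S_eq h2))

end Cfsg.Agent.P2
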