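/-
P2: Suzuki's theorem on Zassenhaus groups of odd degree.
-/
import Cfsg.Prelude.Def_Exceptional
import Cfsg.Agent.P2.Coord
import Cfsg.Agent.P2.Model

set_option autoImplicit false
set_option linter.unusedSectionVars false

namespace Cfsg.Agent.P2

open Subgroup Cfsg Cfsg.Agent Cfsg.Agent.FT

universe u

theorem theta_form {F : Type*} [Field F] [Fintype F] [CharP F 2] {n : ℕ}
    (hF : Fintype.card F = 2 ^ n) {θ : F ≃+* F} (h2 : ∀ x, θ (θ x) = x ^ 2) :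
    ∃ m, n = 2 * m + 1 ∧ ∀ x, θ x = x ^ 2 ^ (m + 1) := by
  have : Fact (Nat.Prime 2) := ⟨Nat.prime_two⟩
  let _ : Algebra (ZMod 2) F := ZMod.algebra F 2
  let σ : F ≃ₐ[ZMod 2] F := AlgEquiv.ofRingEquiv (f := θ) fun x =>
    DFunLike.congr_fun (Subsingleton.elim ((θ : F →+* F).comp (algebraMap (ZMod 2) F))
      (algebraMap (ZMod 2) F)) x
  have hn : Module.finrank (ZMod 2) F = n := Nat.pow_right_injective le_rfl (by
    simpa [hF] using (Module.card_eq_pow_finrank (K := ZMod 2) (V := F)).symm)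
  have h1 : σ ^ 2 = FiniteField.frobeniusAlgEquivOfAlgebraic (ZMod 2) F := by
    ext x; rw [sq, FiniteField.coe_frobeniusAlgEquivOfAlgebraic, ZMod.card]; exact h2 x
  have h3 : σ ^ n = 1 := by rw [← hn, ← IsGalois.card_aut_eq_finrank, pow_card_eq_one']
  have h4 := FiniteField.orderOf_frobeniusAlgEquivOfAlgebraic (ZMod 2) F
  have n0 : 0 < n := hn ▸ Module.finrank_pos
  rw [hn, ← h1] at h4
  rcases Nat.even_or_odd' n with ⟨m, hm | hm⟩
  · have := orderOf_dvd_of_pow_eq_one (x := σ ^ 2) (n := m) (by rw [← pow_mul, ← hm, h3])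
    have := Nat.le_of_dvd (by omega) this
    omega
  · refine ⟨m, hm, fun x => ?_⟩
    have h5 : σ = FiniteField.frobeniusAlgEquivOfAlgebraic (ZMod 2) F ^ (m + 1) := by
      rw [← h1, ← pow_mul, show 2 * (m + 1) = n + 1 by omega, pow_succ, h3, one_mul]
    have := DFunLike.congr_fun h5 x
    rwa [AlgEquiv.coe_pow, FiniteField.coe_frobeniusAlgEquivOfAlgebraic_iterate, ZMod.card] at this

theorem exists_theta {F : Type*} [Field F] [Fintype F] {m : ℕ}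
    (hF : Fintype.card F = 2 ^ (2 * m + 1)) : ∃ (_ : CharP F 2) (θ : F ≃+* F),
      (∀ x, θ x = x ^ 2 ^ (m + 1)) ∧ ∀ x, θ (θ x) = x ^ 2 := by
  have : Fact (Nat.Prime 2) := ⟨Nat.prime_two⟩
  have : CharP F 2 := charP_of_card_eq_prime_pow hF
  refine ⟨this, iterateFrobeniusEquiv F 2 (m + 1), fun _ => rfl, fun x => ?_⟩
  simp only [iterateFrobeniusEquiv_def]
  rw [← pow_mul, ← pow_add, show m + 1 + (m + 1) = 2 * m + 1 + 1 by ring, pow_succ, ← hF, pow_mul,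
    FiniteField.pow_card]

variable {G : Type u} [Group G]

/-- Suzuki groups carry Suzuki coordinates. -/
theorem exists_szRel_of_iso {F : Type*} [Field F] [Fintype F] {m : ℕ}
    (hF : Fintype.card F = 2 ^ (2 * m + 1)) (e : G ≃* Lie.Sz F (2 ^ (m + 1))) :
    ∃ (_ : CharP F 2) (θ : F ≃+* F) (s z k : F → G) (t : G), SzRel θ s z k t ∧
      (∀ x, θ x = x ^ 2 ^ (m + 1)) ∧ ∀ x, θ (θ x) = x ^ 2 := by
  obtain ⟨_, θ, h1, h2⟩ := exists_theta hF
  obtain ⟨s, z, k, t, h⟩ := sz_rel h1 h2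
  exact ⟨inferInstance, θ, _, _, _, _, h.map e.symm, h1, h2⟩

/-- Suzuki groups are Zassenhaus groups. -/
theorem exists_zt_of_iso {F : Type*} [Field F] [Fintype F] {m : ℕ} (hm : 1 ≤ m)
    (hF : Fintype.card F = 2 ^ (2 * m + 1)) (e : G ≃* Lie.Sz F (2 ^ (m + 1))) :
    ∃ (Q H : Subgroup G) (t : G), ZT Q H t ∧ 𝐨(Q) = (2 ^ (2 * m + 1)) ^ 2 ∧
      𝐨(H) = 2 ^ (2 * m + 1) - 1 := by
  obtain ⟨_, θ, s, z, k, t, h, -, h2⟩ := exists_szRel_of_iso hF e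
  rw [← Nat.card_eq_fintype_card] at hF
  exact ⟨_, _, t, h.zt h2 (hF ▸ Nat.pow_lt_pow_right (a := 2) (m := 1) one_lt_two (by omega)),
    hF ▸ h.card_Q, hF ▸ h.card_K⟩

theorem finite_of_isoSuzuki (h : Lie.IsoSuzuki G) : Finite G := by
  obtain ⟨F, _, _, m, -, -, ⟨e⟩⟩ := h
  exact Finite.of_equiv _ e.symm.toEquiv

theorem exists_zt_of_isoSuzuki (h : Lie.IsoSuzuki G) : ∃ m, 1 ≤ m ∧
    ∃ (Q H : Subgroup G) (t : G), ZT Q H t ∧ 𝐨(Q) = (2 ^ (2 * m + 1)) ^ 2 ∧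
      𝐨(H) = 2 ^ (2 * m + 1) - 1 := by
  obtain ⟨F, _, _, m, hm, hF, ⟨e⟩⟩ := h
  exact ⟨m, hm, exists_zt_of_iso hm hF e⟩

theorem isSuzuki_of_isoSuzuki (h : Lie.IsoSuzuki G) : IsSuzuki G := by
  have := finite_of_isoSuzuki h
  obtain ⟨m, hm, Q, H, t, h, h1, h2⟩ := exists_zt_of_isoSuzuki h
  exact ⟨h.isSimpleGroup h.isPGroup, m, hm, by rw [h.card_G, h1, h2]; ring⟩

variable [Finite G]

namespace ZT

variable {Q H : Subgroup G} {t : G}

theorem simple (h : ZT Q H t) : IsSimpleGroup G := h.isSimpleGroup h.isPGroup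

theorem cent_eq (h : ZT Q H t) {s : G} (hs : s ∈ Q) (s1 : s ≠ 1) (hss : s * s = 1) : 𝐂[s] = Q :=
  le_antisymm (fun _ hx => h.cent hs s1 (mem_cent1_iff_commute.mp hx))
    fun _ hx => mem_cent1_iff_commute.mpr (h.central hs hss hx).symm

theorem eac (h : ZT Q H t) (hQ : Q = h.Z) : L.EAC G := fun u x u1 hu hc => by
  obtain ⟨g, hg⟩ := h.invol_conj hu
  have h1 := h.cent hg (by simpa using u1) ((hc.map (MulAut.conj g) :))
  rw [hQ] at h1
  simpa [← map_mul] using (h.mem_Z.mp h1).2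

/-- **Suzuki's theorem.** -/
theorem main (h : ZT Q H t) :
    (∃ n, 2 ≤ n ∧ 𝐨(Q) = 2 ^ n ∧ 𝐨(H) = 2 ^ n - 1 ∧ Q = h.Z ∧
      Nonempty (G ≃* Matrix.SpecialLinearGroup (Fin 2) (GaloisField 2 n)) ∧
      Nonempty (G ≃* Matrix.ProjectiveSpecialLinearGroup (Fin 2) (GaloisField 2 n))) ∨
    ∃ m, 1 ≤ m ∧ 𝐨(Q) = (2 ^ (2 * m + 1)) ^ 2 ∧ 𝐨(H) = 2 ^ (2 * m + 1) - 1 ∧
      Nonempty (G ≃* Lie.Sz (GaloisField 2 (2 * m + 1)) (2 ^ (m + 1))) := by
  rcases h.cases with hQ | ⟨h1, h2, h3⟩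
  · obtain ⟨s, hs, s1, hss⟩ := h.exists_invol
    have hc := h.card_Z
    rw [← hQ] at hc
    obtain ⟨n, a1, a2, -, a3⟩ := (h.eac hQ).exists_galoisField s1 hss h.tt
      (fun hc => h.t_notMem (mem_sup_left (h.cent hs s1 hc)))
      (by rw [h.cent_eq hs s1 hss, hc]; have := h.three_le; omega)
    rw [h.cent_eq hs s1 hss] at a2
    exact Or.inl ⟨n, a1, a2, by omega, hQ, a3⟩
  · obtain ⟨n, hn2, hn⟩ := h.exists_pow
    have := Fintype.ofFinite (GaloisField 2 n)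
    have hF : Fintype.card (GaloisField 2 n) = 2 ^ n := by
      rw [← Nat.card_eq_fintype_card, GaloisField.card 2 n (by omega)]
    obtain ⟨θ, s, z, k, a1, a2⟩ := h.exists_szRel h1 h2 h3 (GaloisField 2 n) (hF.trans hn.symm)
    obtain ⟨m, rfl, a3⟩ := theta_form hF a2
    obtain ⟨s', z', k', t', a4⟩ := sz_rel a3 a2
    exact Or.inr ⟨m, by omega, by rw [← H1.card_mul_relIndex h.Z_le, h.card_Z, h3, hn, sq],
      by omega, a1.iso a2 a4⟩

theorem sl2_or_isoSuzuki (h : ZT Q H t) :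
    (∃ n, 2 ≤ n ∧ Nonempty (G ≃* Matrix.SpecialLinearGroup (Fin 2) (GaloisField 2 n)) ∧
      Nonempty (G ≃* Matrix.ProjectiveSpecialLinearGroup (Fin 2) (GaloisField 2 n))) ∨
    Lie.IsoSuzuki G := by
  rcases h.main with ⟨n, h1, -, -, -, h2⟩ | ⟨m, h1, -, -, h2⟩
  · exact Or.inl ⟨n, h1, h2⟩
  · have := Fintype.ofFinite (GaloisField 2 (2 * m + 1))
    exact Or.inr ⟨_, inferInstance, this, m, h1, by
      rw [← Nat.card_eq_fintype_card, GaloisField.card 2 _ (by omega)], h2⟩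

end ZT

end Cfsg.Agent.P2
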